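import Groth.Agent.EpsLan.Acyclic
import Mathlib

/-!
Étale cohomology equals pro-étale cohomology of the pullback.
-/

set_option autoImplicit false
set_option backward.isDefEq.respectTransparency false
set_option backward.isDefEq.respectTransparency.types false
set_option linter.style.haveILetI false
set_option synthInstance.maxHeartbeats 200000

universe w v u

open CategoryTheory CategoryTheory.Limits AlgebraicGeometry Opposite CategoryTheory.Abelian

namespace Groth.Agent.EpsLan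

/-! ### Generalities -/

theorem exists_addEquiv_of_surjective {A B A' B' : Type*} [AddCommGroup A] [AddCommGroup B] [AddCommGroup A']
    [AddCommGroup B'] (δ : A →+ B) (δ' : A' →+ B') (h : Function.Surjective δ) (h' : Function.Surjective δ')
    (e : A ≃+ A') (hk : ∀ a, δ a = 0 ↔ δ' (e a) = 0) : Nonempty (B ≃+ B') := by
  have hker : AddSubgroup.map (e : A →+ A') δ.ker = δ'.ker := by
    ext a'
    obtain ⟨a, rfl⟩ := e.surjective a'
    simp only [AddSubgroup.mem_map, AddMonoidHom.mem_ker]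
    exact ⟨fun ⟨b, hb, hba⟩ => (hk a).1 (e.injective hba ▸ hb), fun ha => ⟨a, (hk a).2 ha, rfl⟩⟩
  exact ⟨(QuotientAddGroup.quotientKerEquivOfSurjective δ h).symm.trans
    ((QuotientAddGroup.congr δ.ker δ'.ker e hker).trans (QuotientAddGroup.quotientKerEquivOfSurjective δ' h'))⟩

section Ext

variable {A : Type u} [Category.{v} A] [Abelian A] [HasExt.{w} A] {S : ShortComplex A} (hS : S.ShortExact) (P : A)

theorem surjective_extClass (n : ℕ) [Subsingleton (Ext P S.X₂ (n + 1))] :
    Function.Surjective (hS.extClass.postcomp P (rfl : n + 1 = n + 1)) := fun x =>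
  Ext.covariant_sequence_exact₁ P hS x (Subsingleton.elim _ _) rfl

theorem extClass_eq_zero_iff (n : ℕ) (x : Ext P S.X₃ n) :
    hS.extClass.postcomp P (rfl : n + 1 = n + 1) x = 0 ↔
      ∃ y : Ext P S.X₂ n, (Ext.mk₀ S.g).postcomp P (add_zero n) y = x := by
  refine ⟨fun h => ?_, ?_⟩
  · obtain ⟨y, hy⟩ := Ext.covariant_sequence_exact₃ P hS x rfl h
    exact ⟨y, hy⟩
  · rintro ⟨y, rfl⟩
    change (y.comp (Ext.mk₀ S.g) (add_zero n)).comp hS.extClass rfl = 0
    rw [Ext.comp_assoc _ _ _ (add_zero n) (zero_add 1) (by omega), hS.comp_extClass, Ext.comp_zero]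

end Ext

theorem subsingleton_H_one {C : Type*} [Category C] {J : GrothendieckTopology C}
    [HasSheafify J AddCommGrpCat.{w}] [HasExt.{w} (Sheaf J AddCommGrpCat.{w})]
    {S : ShortComplex (Sheaf J AddCommGrpCat.{w})} (hS : S.ShortExact) {T : C} (hT : IsTerminal T)
    [Subsingleton (Sheaf.H S.X₂ 1)] (hsurj : Function.Surjective (S.g.hom.app (op T))) :
    Subsingleton (Sheaf.H S.X₁ 1) := by
  refine SiteCoh.subsingleton_ext_one_of_lift hS _ fun φ => ?_
  obtain ⟨s, hs⟩ := hsurj (Sheaf.H.equiv₀ S.X₃ hT (Ext.mk₀ φ))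
  obtain ⟨ψ, hψ⟩ := (Ext.mk₀_bijective _ _).2 ((Sheaf.H.equiv₀ S.X₂ hT).symm s)
  refine ⟨ψ, (Ext.mk₀_bijective _ _).1 ?_⟩
  rw [← Ext.mk₀_comp_mk₀, hψ, ← Sheaf.H.map_apply, Sheaf.H.equiv₀_symm_naturality, hs, AddEquiv.symm_apply_apply]

/-! ### The comparison -/

variable {X : Scheme.{u}} [ProEtS.EpsCont X]

/-- the terminal étale scheme -/
noncomputable def etTopT (X : Scheme.{u}) : IsTerminal (EtCoh.top X) :=
  IsTerminal.ofUniqueHom (fun V => MorphismProperty.Over.homMk V.hom (Category.comp_id _))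
    (fun _ m => MorphismProperty.Over.Hom.ext ((Category.comp_id _).symm.trans (MorphismProperty.Over.w m)))

/-- the terminal pro-étale scheme -/
noncomputable def proTopT (X : Scheme.{u}) : IsTerminal ((ProEtS.eps X).obj (EtCoh.top X)) :=
  IsTerminal.ofUniqueHom (fun W => MorphismProperty.Over.homMk W.hom (Category.comp_id _))
    (fun _ m => MorphismProperty.Over.Hom.ext ((Category.comp_id _).symm.trans (MorphismProperty.Over.w m)))

/-- Čech acyclic with injective direct image -/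
def Good (G : ProEtS.AbP X) : Prop := CechAcyclic G ∧ Injective ((ProEtS.epsPush X).obj G)

theorem good_quotient {S : ShortComplex (ProEtS.AbP X)} (hS : S.ShortExact) [Injective S.X₂] (h : Good S.X₁) :
    Good S.X₃ ∧ ∀ V : X.Etale, Function.Surjective (S.g.hom.app (op ((ProEtS.eps X).obj V))) := by
  haveI := hS.mono_f
  haveI := h.2
  haveI : Injective ((ProEtS.epsPush X).obj S.X₂) := Injective.injective_of_adjoint (ProEtS.epsAdj X) S.X₂
  haveI : Mono ((ProEtS.epsPush X).map S.f) := Functor.map_mono _ _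
  haveI : Epi ((ProEtS.epsPush X).map S.g) := epi_epsPush_of_acyclic hS h.1
  have hS' : (S.map (ProEtS.epsPush X)).ShortExact :=
    { exact := ShortComplex.exact_of_f_is_kernel _ (KernelFork.mapIsLimit _ hS.fIsKernel (ProEtS.epsPush X))
      mono_f := inferInstanceAs (Mono ((ProEtS.epsPush X).map S.f))
      epi_g := inferInstanceAs (Epi ((ProEtS.epsPush X).map S.g)) }
  haveI : Injective (S.map (ProEtS.epsPush X)).X₁ := h.2
  let σ := hS'.splittingOfInjective
  refine ⟨⟨cechAcyclic_quotient hS h.1 (cechAcyclic_injective _),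
    Retract.injective (⟨σ.s, (ProEtS.epsPush X).map S.g, σ.s_g⟩ :
      Retract ((ProEtS.epsPush X).obj S.X₃) ((ProEtS.epsPush X).obj S.X₂))⟩, fun V y => ?_⟩
  exact ⟨σ.s.hom.app (op V) y,
    ConcreteCategory.congr_hom (congrArg (fun m : (ProEtS.epsPush X).obj S.X₃ ⟶ (ProEtS.epsPush X).obj S.X₃ =>
      m.hom.app (op V)) σ.s_g) y⟩

theorem subsingleton_HP_good (p : ℕ) : ∀ (G : ProEtS.AbP X), Good G → Subsingleton (ProEtS.HP X G (p + 1)) := by
  induction p with
  | zero =>
    intro G hG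
    obtain ⟨-, hs⟩ := good_quotient (SiteCoh.embedSeq_shortExact G) hG
    haveI : Subsingleton (Sheaf.H (SiteCoh.embedSeq G).X₂ 1) := SiteCoh.subsingleton_ext_injective _ _ 0
    exact subsingleton_H_one (SiteCoh.embedSeq_shortExact G) (proTopT X) (hs (EtCoh.top X))
  | succ p ih =>
    intro G hG
    obtain ⟨hQ, -⟩ := good_quotient (SiteCoh.embedSeq_shortExact G) hG
    haveI : Subsingleton (Sheaf.H (SiteCoh.embedSeq G).X₃ (p + 1)) := ih _ hQ
    exact SiteCoh.subsingleton_ext_succ (SiteCoh.embedSeq_shortExact G) _ (p + 1)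

/-- pullbacks of injectives have no higher cohomology -/
theorem subsingleton_HP_epsPull (I : EtCoh.Ab X) [Injective I] (p : ℕ) :
    Subsingleton (ProEtS.HP X ((ProEtS.epsPull X).obj I) (p + 1)) := by
  haveI := isIso_unit I
  exact subsingleton_HP_good p _ ⟨cechAcyclic_epsPull I,
    Injective.of_iso (asIso ((ProEtS.epsAdj X).unit.app I)) inferInstance⟩

/-- global sections -/
noncomputable def h0Equiv (F : EtCoh.Ab X) : EtCoh.H X F 0 ≃+ ProEtS.HP X ((ProEtS.epsPull X).obj F) 0 :=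
  haveI := isIso_unit F
  (Sheaf.H.equiv₀ F (etTopT X)).trans
    (((((sheafToPresheaf _ _ ⋙ (evaluation _ AddCommGrpCat.{u + 1}).obj (op (EtCoh.top X))).mapIso
      (asIso ((ProEtS.epsAdj X).unit.app F)))).addCommGroupIsoToAddEquiv).trans
        (Sheaf.H.equiv₀ ((ProEtS.epsPull X).obj F) (proTopT X)).symm)

theorem h0Equiv_natural {F G : EtCoh.Ab X} (φ : F ⟶ G) (x : EtCoh.H X F 0) :
    h0Equiv G (Sheaf.H.map φ 0 x) = Sheaf.H.map ((ProEtS.epsPull X).map φ) 0 (h0Equiv F x) := by
  change (Sheaf.H.equiv₀ ((ProEtS.epsPull X).obj G) (proTopT X)).symm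
      (((ProEtS.epsAdj X).unit.app G).hom.app (op (EtCoh.top X)) (Sheaf.H.equiv₀ G (etTopT X) (Sheaf.H.map φ 0 x))) =
    Sheaf.H.map ((ProEtS.epsPull X).map φ) 0 ((Sheaf.H.equiv₀ ((ProEtS.epsPull X).obj F) (proTopT X)).symm
      (((ProEtS.epsAdj X).unit.app F).hom.app (op (EtCoh.top X)) (Sheaf.H.equiv₀ F (etTopT X) x)))
  rw [← Sheaf.H.equiv₀_naturality, Sheaf.H.equiv₀_symm_naturality]
  refine congrArg (Sheaf.H.equiv₀ ((ProEtS.epsPull X).obj G) (proTopT X)).symm ?_
  exact ConcreteCategory.congr_hom (congrArg (fun m : F ⟶ (ProEtS.epsPush X).obj ((ProEtS.epsPull X).obj G) =>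
    m.hom.app (op (EtCoh.top X))) ((ProEtS.epsAdj X).unit.naturality φ)) (Sheaf.H.equiv₀ F (etTopT X) x)

/-- the comparison in all degrees -/
theorem nonempty_addEquiv_H (i : ℕ) : ∀ F : EtCoh.Ab X,
    Nonempty (EtCoh.H X F i ≃+ ProEtS.HP X ((ProEtS.epsPull X).obj F) i) := by
  induction i with
  | zero => exact fun F => ⟨h0Equiv F⟩
  | succ n ih =>
    intro F
    let S := SiteCoh.embedSeq F
    have hS : S.ShortExact := SiteCoh.embedSeq_shortExact F
    have hS' := shortExact_map_epsPull hS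
    haveI hI : ∀ m, Subsingleton (Sheaf.H S.X₂ (m + 1)) := fun m => SiteCoh.subsingleton_ext_injective _ _ m
    haveI hI' : ∀ m, Subsingleton (Sheaf.H (S.map (ProEtS.epsPull X)).X₂ (m + 1)) := fun m =>
      subsingleton_HP_epsPull _ m
    rcases n with _ | n
    · refine exists_addEquiv_of_surjective (hS.extClass.postcomp _ rfl) (hS'.extClass.postcomp _ rfl)
        (surjective_extClass hS _ 0) (surjective_extClass hS' _ 0) (h0Equiv S.X₃) fun a => ?_
      refine (extClass_eq_zero_iff hS _ 0 a).trans (Iff.trans ?_ (extClass_eq_zero_iff hS' _ 0 _).symm)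
      constructor
      · rintro ⟨y, rfl⟩
        exact ⟨h0Equiv S.X₂ y, (h0Equiv_natural S.g y).symm⟩
      · rintro ⟨y, hy⟩
        obtain ⟨x, rfl⟩ := (h0Equiv S.X₂).surjective y
        exact ⟨x, (h0Equiv S.X₃).injective ((h0Equiv_natural S.g x).trans hy)⟩
    · obtain ⟨e⟩ := ih S.X₃
      exact ⟨(SiteCoh.shiftEquiv hS _ (n + 1)).symm.trans (e.trans (SiteCoh.shiftEquiv hS' _ (n + 1)))⟩

end Groth.Agent.EpsLan
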