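import Groth.Agent.EpsLan.Sheaf
import Groth.Agent.RDerLib.LES
import Groth.Agent.SiteCoh.Basic
import Groth.Agent.AnLib.FlatLan
import Mathlib

/-!
Čech acyclic pro-étale sheaves on presented objects; vanishing of the higher direct images along ε.
-/

set_option autoImplicit false
set_option backward.isDefEq.respectTransparency false
set_option backward.isDefEq.respectTransparency.types false
set_option linter.style.haveILetI false
set_option synthInstance.maxHeartbeats 200000

universe u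

open CategoryTheory CategoryTheory.Limits AlgebraicGeometry Opposite

namespace Groth.Agent.EpsLan

variable {X : Scheme.{u}}

/-- no higher Čech cohomology along surjections of presented objects -/
def CechAcyclic (G : ProEtS.AbP X) : Prop :=
  ∀ {Z W : X.ProEt} (p : Z ⟶ W), Nonempty (Pres W) → Nonempty (Pres Z) → Surjective p.left → PExact G.obj p

theorem cechAcyclic_of_iso {G H : ProEtS.AbP X} (e : G ≅ H) (h : CechAcyclic G) : CechAcyclic H := by
  intro Z W p hW hZ hp n x hx
  have hinv : ∀ (T : (X.ProEt)ᵒᵖ) (y : H.obj.obj T), e.hom.hom.app T (e.inv.hom.app T y) = y := fun T y => by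
    rw [← ConcreteCategory.comp_apply]
    exact ConcreteCategory.congr_hom (congrArg (fun m : H ⟶ H => m.hom.app T) e.inv_hom_id) y
  obtain ⟨y, hy⟩ := h p hW hZ hp n (e.inv.hom.app _ x) (by rw [← pd_natTrans, hx, map_zero])
  exact ⟨e.hom.hom.app _ y, by rw [← pd_natTrans, hy, hinv]⟩

theorem injective_obj {C : Type (u + 1)} [Category.{u} C] {J : GrothendieckTopology C}
    [HasSheafify J AddCommGrpCat.{u + 1}] (I : Sheaf J AddCommGrpCat.{u + 1}) [Injective I] : Injective I.obj :=
  Injective.injective_of_adjoint (sheafificationAdjunction J AddCommGrpCat.{u + 1}) I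

theorem cechAcyclic_injective (I : ProEtS.AbP X) [Injective I] : CechAcyclic I := fun p _ _ _ =>
  haveI := injective_obj I
  pExact_of_injective I.obj p

theorem cechAcyclic_GP (I : EtCoh.Ab X) [Injective I] : CechAcyclic (GP I) := by
  intro Z W p hW hZ hp n x hx
  obtain ⟨P⟩ := hW
  obtain ⟨Q⟩ := hZ
  obtain ⟨x', rfl⟩ := (bijective_η (presPwr P Q p (n + 1)) I).2 x
  obtain ⟨k, c, rfl⟩ := (presPwr P Q p (n + 1)).exists_sec I x'
  have h0 : sec I (pwrπ P Q p (n + 2) k) (pd I.obj k.f c) = 0 := by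
    rw [sec_pd]
    apply (bijective_η (presPwr P Q p (n + 2)) I).1
    rw [pd_natTrans, map_zero]
    exact hx
  obtain ⟨k', t, ht⟩ := exists_stage_zero P Q p I (n + 2) k _ h0
  rw [pd_map] at ht
  haveI := injective_obj I
  obtain ⟨y, hy⟩ := pExact_of_injective I.obj k'.f n _ ht
  refine ⟨(η I).app _ (sec I (pwrπ P Q p n k') y), ?_⟩
  rw [← pd_natTrans, ← sec_pd, hy]
  exact congrArg ((η I).app _) (sec_pres_map (presPwr P Q p (n + 1)) I t c).symm

/-! ### Short exact sequences and sections -/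

variable {S : ShortComplex (ProEtS.AbP X)}

theorem exists_of_map_g_eq_zero (hS : S.ShortExact) {T : X.ProEt} (x : S.X₂.obj.obj (op T))
    (hx : S.g.hom.app _ x = 0) : ∃ y, S.f.hom.app _ y = x := by
  let Φ : ProEtS.AbP X ⥤ AddCommGrpCat.{u + 1} :=
    sheafToPresheaf _ _ ⋙ (evaluation _ AddCommGrpCat.{u + 1}).obj (op T)
  haveI : PreservesFiniteLimits Φ := comp_preservesFiniteLimits _ _
  haveI := hS.mono_f
  have h := ShortComplex.exact_of_f_is_kernel
    (ShortComplex.mk (Φ.map S.f) (Φ.map S.g) (by rw [← Functor.map_comp, S.zero, Functor.map_zero]))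
    (KernelFork.mapIsLimit _ hS.fIsKernel Φ)
  exact (ShortComplex.ab_exact_iff _).1 h x hx

theorem injective_f (hS : S.ShortExact) (T : X.ProEt) : Function.Injective (S.f.hom.app (op T)) := by
  haveI := hS.mono_f
  let Φ : ProEtS.AbP X ⥤ AddCommGrpCat.{u + 1} :=
    sheafToPresheaf _ _ ⋙ (evaluation _ AddCommGrpCat.{u + 1}).obj (op T)
  haveI : PreservesFiniteLimits Φ := comp_preservesFiniteLimits _ _
  exact (AddCommGrpCat.mono_iff_injective (Φ.map S.f)).1 inferInstance

theorem g_f_eq_zero {T : X.ProEt} (y : S.X₁.obj.obj (op T)) : S.g.hom.app _ (S.f.hom.app _ y) = 0 :=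
  ConcreteCategory.congr_hom (congrArg (fun m : S.X₁ ⟶ S.X₃ => m.hom.app (op T)) S.zero) y

theorem surjective_sections (hS : S.ShortExact) (h : CechAcyclic S.X₁) {W : X.ProEt} (P : Pres W) :
    Function.Surjective (S.g.hom.app (op W)) := by
  intro t
  haveI := hS.epi_g
  haveI : Sheaf.IsLocallySurjective S.g :=
    (Sheaf.isLocallySurjective_iff_epi' AddCommGrpCat.{u + 1} S.g).2 inferInstance
  obtain ⟨n, Y, y, hy, Z, p, q, hqp, ⟨Q⟩, hsurj⟩ := exists_pres_refine P _
    (Presheaf.imageSieve_mem (Scheme.ProEt.topology X) S.g.hom t)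
  choose x hx using hy
  obtain ⟨u₀, hu₀, -⟩ := sigma_glue_ab S.X₂ Y x
  have h0 : S.g.hom.app _ u₀ = S.X₃.obj.map (sigmaOut Y y).op t := by
    refine (sigma_glue_ab S.X₃ Y fun k => S.g.hom.app _ (x k)).unique (fun k => ?_) fun k => ?_
    · rw [← NatTrans.naturality_apply, hu₀]
    · rw [← ConcreteCategory.comp_apply, ← Functor.map_comp, ← op_comp, sigmaInj_out, hx k]
  obtain ⟨u, hu⟩ : ∃ u : S.X₂.obj.obj (op Z), S.g.hom.app _ u = S.X₃.obj.map p.op t :=
    ⟨S.X₂.obj.map q.op u₀, by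
      rw [NatTrans.naturality_apply, h0, ← ConcreteCategory.comp_apply, ← Functor.map_comp, ← op_comp, hqp]⟩
  let u' := S.X₂.obj.map (pproj p 0 0).op u
  have hd : S.g.hom.app _ (pd S.X₂.obj p u') = 0 := by
    rw [pd_natTrans, NatTrans.naturality_apply, hu, pd_proj_zero, ← ConcreteCategory.comp_apply,
      ← ConcreteCategory.comp_apply, ← Functor.map_comp, ← Functor.map_comp, ← op_comp, ← op_comp, pproj_comm,
      sub_self]
  obtain ⟨e, he⟩ := exists_of_map_g_eq_zero hS _ hd
  have he0 : pd S.X₁.obj p e = 0 := injective_f hS _ (by rw [pd_natTrans, he, pd_pd, map_zero])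
  obtain ⟨h', hh'⟩ := h p ⟨P⟩ ⟨Q⟩ hsurj 0 e he0
  let u'' := u' - S.f.hom.app _ h'
  have hu'' : pd S.X₂.obj p u'' = 0 := by rw [pd_sub, ← pd_natTrans, hh', he, sub_self]
  let v₀ := S.X₂.obj.map (pone p).op u''
  have hv₀ : S.X₂.obj.map (pproj p 0 0).op v₀ = u'' := by
    change S.X₂.obj.map (pproj p 0 0).op (S.X₂.obj.map (pone p).op u'') = u''
    rw [← ConcreteCategory.comp_apply, ← Functor.map_comp, ← op_comp, proj_pone, op_id,
      CategoryTheory.Functor.map_id]
    rfl
  have hv01 : S.X₂.obj.map (pproj p 1 1).op v₀ = S.X₂.obj.map (pproj p 1 0).op v₀ := by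
    rw [← sub_eq_zero, ← pd_proj_zero, hv₀, hu'']
  haveI := P.quasiSeparatedSpace
  haveI := Q.compactSpace
  have hR : Sieve.ofArrows (fun _ : PUnit.{u + 1} => Z) (fun _ => p) ∈ Scheme.ProEt.topology X W := by
    rw [Sieve.ofArrows, Presieve.ofArrows_pUnit]; exact singleton_mem_topology p
  have hc : Presieve.Arrows.Compatible (S.X₂.obj ⋙ forget AddCommGrpCat.{u + 1}) (fun _ : PUnit.{u + 1} => p)
      fun _ => v₀ := by
    intro _ _ T g₁ g₂ h12
    let L := plift p (T := T) (n := 1) ![g₁, g₂] (by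
      intro i
      fin_cases i
      · rfl
      · exact h12.symm)
    change S.X₂.obj.map g₁.op v₀ = S.X₂.obj.map g₂.op v₀
    have l0 : L ≫ pproj p 1 0 = g₁ := plift_proj _ _ _ _
    have l1 : L ≫ pproj p 1 1 = g₂ := plift_proj _ _ _ _
    rw [← l0, ← l1, op_comp, op_comp, Functor.map_comp, Functor.map_comp, ConcreteCategory.comp_apply,
      ConcreteCategory.comp_apply, hv01]
  obtain ⟨v, hv, -⟩ := (Presieve.isSheafFor_arrows_iff _ _).mp
    ((Presieve.isSheafFor_iff_generate _).mpr ((sheaf_forget_proet S.X₂) _ hR)) (fun _ => v₀) hc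
  refine ⟨v, sep_of_surjective S.X₃ p _ _ ?_⟩
  rw [← NatTrans.naturality_apply, show S.X₂.obj.map p.op v = v₀ from hv ⟨⟩, ← hu]
  change S.g.hom.app _ (S.X₂.obj.map (pone p).op (u' - S.f.hom.app _ h')) = _
  rw [map_sub, map_sub, ← NatTrans.naturality_apply S.f.hom, g_f_eq_zero, sub_zero]
  refine congrArg (S.g.hom.app _) ?_
  change S.X₂.obj.map (pone p).op (S.X₂.obj.map (pproj p 0 0).op u) = u
  rw [← ConcreteCategory.comp_apply, ← Functor.map_comp, ← op_comp, pone_proj, op_id,
    CategoryTheory.Functor.map_id]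
  rfl

theorem cechAcyclic_quotient (hS : S.ShortExact) (h1 : CechAcyclic S.X₁) (h2 : CechAcyclic S.X₂) :
    CechAcyclic S.X₃ := by
  intro Z W p hW hZ hp n x hx
  obtain ⟨P⟩ := hW
  obtain ⟨Q⟩ := hZ
  obtain ⟨u, hu⟩ := surjective_sections hS h1 (presPwr P Q p (n + 1)) x
  obtain ⟨e, he⟩ := exists_of_map_g_eq_zero hS (pd S.X₂.obj p u) (by rw [pd_natTrans, hu, hx])
  have he0 : pd S.X₁.obj p e = 0 := injective_f hS _ (by rw [pd_natTrans, he, pd_pd, map_zero])
  obtain ⟨h', hh'⟩ := h1 p ⟨P⟩ ⟨Q⟩ hp (n + 1) e he0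
  obtain ⟨v, hv⟩ := h2 p ⟨P⟩ ⟨Q⟩ hp n (u - S.f.hom.app _ h') (by rw [pd_sub, ← pd_natTrans, hh', he, sub_self])
  exact ⟨S.g.hom.app _ v, by rw [← pd_natTrans, hv, map_sub, g_f_eq_zero, sub_zero, hu]⟩

/-! ### Direct images -/

variable [ProEtS.EpsCont X]

instance preservesLimits_epsPush : PreservesLimits (ProEtS.epsPush X) :=
  (ProEtS.epsAdj X).rightAdjoint_preservesLimits

instance preservesFiniteLimits_epsPush : PreservesFiniteLimits (ProEtS.epsPush X) :=
  PreservesLimits.preservesFiniteLimits _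

instance preservesFiniteLimits_epsPull : PreservesFiniteLimits (ProEtS.epsPull X) :=
  Groth.Agent.AnLib.sheafPullback_preservesFiniteLimits (ProEtS.eps X) _ _

instance preservesFiniteColimits_epsPull : PreservesFiniteColimits (ProEtS.epsPull X) :=
  haveI := (ProEtS.epsAdj X).leftAdjoint_preservesColimits
  PreservesColimits.preservesFiniteColimits _

theorem epi_epsPush_map {G H : ProEtS.AbP X} (φ : G ⟶ H)
    (h : ∀ V : X.Etale, IsAffine V.left → Function.Surjective (φ.hom.app (op ((ProEtS.eps X).obj V)))) :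
    Epi ((ProEtS.epsPush X).map φ) := by
  refine (Sheaf.isLocallySurjective_iff_epi' AddCommGrpCat.{u + 1} ((ProEtS.epsPush X).map φ)).1 ⟨fun {V} s => ?_⟩
  refine mem_etale_topology _ fun x => ?_
  obtain ⟨O, hO, hxO, -⟩ : ∃ O : V.left.Opens, IsAffineOpen O ∧ x ∈ O ∧ O ≤ ⊤ :=
    TopologicalSpace.Opens.isBasis_iff_nbhd.mp V.left.isBasis_affineOpens
      (show x ∈ (⊤ : V.left.Opens) from trivial)
  obtain ⟨z, hz⟩ : x ∈ Set.range O.ι := by rw [Scheme.Opens.range_ι]; exact hxO
  exact ⟨opn V O, opnHom V O, z, h (opn V O) hO _, hz⟩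

/-- the connecting step -/
theorem isZero_succ {C : Type*} [Category C] [Abelian C] [HasInjectiveResolutions C] {D : Type*} [Category D]
    [Abelian D] (Φ : C ⥤ D) [Φ.Additive] {S : ShortComplex C} (hS : S.ShortExact) (q : ℕ)
    (h2 : IsZero ((Φ.rightDerived (q + 1)).obj S.X₂)) (hg : Epi ((Φ.rightDerived q).map S.g)) :
    IsZero ((Φ.rightDerived (q + 1)).obj S.X₁) := by
  let T := RDerLib.res hS
  have e3 := RDerLib.exact₃ Φ T q (q + 1) rfl
  have e1 := RDerLib.exact₁ Φ T q (q + 1) rfl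
  have hδ : T.delta Φ q (q + 1) rfl = 0 := by
    rw [← cancel_epi ((Φ.rightDerived q).map S.g), comp_zero]
    exact RDerLib.g_delta Φ T q (q + 1) rfl
  haveI : Mono ((Φ.rightDerived (q + 1)).map S.f) := e1.mono_g hδ
  exact IsZero.of_mono ((Φ.rightDerived (q + 1)).map S.f) h2

theorem epi_rightDerived_zero {C : Type*} [Category C] [Abelian C] [HasInjectiveResolutions C] {D : Type*}
    [Category D] [Abelian D] (Φ : C ⥤ D) [Φ.Additive] [PreservesFiniteLimits Φ] {A B : C} (g : A ⟶ B)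
    (hg : Epi (Φ.map g)) : Epi ((Φ.rightDerived 0).map g) := by
  have e : (Φ.rightDerived 0).map g =
      Φ.rightDerivedZeroIsoSelf.hom.app A ≫ Φ.map g ≫ Φ.rightDerivedZeroIsoSelf.inv.app B := by
    rw [← Category.assoc, ← Φ.rightDerivedZeroIsoSelf.hom.naturality g, Category.assoc, Iso.hom_inv_id_app,
      Category.comp_id]
  rw [e]
  infer_instance

theorem epi_epsPush_of_acyclic (hS : S.ShortExact) (h : CechAcyclic S.X₁) : Epi ((ProEtS.epsPush X).map S.g) :=
  epi_epsPush_map S.g fun V _ => surjective_sections hS h (nonempty_pres_eps V).some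

theorem isZero_RepsPush_of_acyclic (q : ℕ) : ∀ (G : ProEtS.AbP X), CechAcyclic G →
    IsZero ((ProEtS.RepsPush X (q + 1)).obj G) := by
  induction q with
  | zero =>
    intro G hG
    refine isZero_succ (ProEtS.epsPush X) (SiteCoh.embedSeq_shortExact G) 0 ?_ ?_
    · exact Functor.isZero_rightDerived_obj_injective_succ _ _ _
    · exact epi_rightDerived_zero _ _ (epi_epsPush_of_acyclic (SiteCoh.embedSeq_shortExact G) hG)
  | succ q ih =>
    intro G hG
    refine isZero_succ (ProEtS.epsPush X) (SiteCoh.embedSeq_shortExact G) (q + 1) ?_ ?_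
    · exact Functor.isZero_rightDerived_obj_injective_succ _ _ _
    · exact ⟨fun a b _ => (ih _ (cechAcyclic_quotient (SiteCoh.embedSeq_shortExact G) hG
        (cechAcyclic_injective _))).eq_of_src a b⟩

theorem cechAcyclic_epsPull (I : EtCoh.Ab X) [Injective I] : CechAcyclic ((ProEtS.epsPull X).obj I) :=
  cechAcyclic_of_iso ((Functor.sheafPullbackConstruction.sheafPullbackIso (ProEtS.eps X) AddCommGrpCat.{u + 1}
    X.smallEtaleTopology (Scheme.ProEt.topology X)).app I).symm (cechAcyclic_GP I)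

theorem shortExact_map_epsPull {T : ShortComplex (EtCoh.Ab X)} (hT : T.ShortExact) :
    (T.map (ProEtS.epsPull X)).ShortExact := hT.map_of_exact _

theorem epi_push_pull {A B : EtCoh.Ab X} (g : A ⟶ B) [Epi g] :
    Epi ((ProEtS.epsPush X).map ((ProEtS.epsPull X).map g)) := by
  haveI := isIso_unit B
  haveI : Epi ((ProEtS.epsAdj X).unit.app A ≫ (ProEtS.epsPush X).map ((ProEtS.epsPull X).map g)) := by
    rw [show (ProEtS.epsAdj X).unit.app A ≫ (ProEtS.epsPush X).map ((ProEtS.epsPull X).map g) =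
      g ≫ (ProEtS.epsAdj X).unit.app B from ((ProEtS.epsAdj X).unit.naturality g).symm]
    infer_instance
  exact epi_of_epi ((ProEtS.epsAdj X).unit.app A) _

/-- `R^q ε_* ε⁻¹ = 0` for positive `q` -/
theorem isZero_RepsPush (q : ℕ) : ∀ F : EtCoh.Ab X,
    IsZero ((ProEtS.RepsPush X (q + 1)).obj ((ProEtS.epsPull X).obj F)) := by
  induction q with
  | zero =>
    intro F
    refine isZero_succ (ProEtS.epsPush X) (shortExact_map_epsPull (SiteCoh.embedSeq_shortExact F)) 0 ?_ ?_
    · exact isZero_RepsPush_of_acyclic 0 _ (cechAcyclic_epsPull _)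
    · haveI := (SiteCoh.embedSeq_shortExact F).epi_g
      exact epi_rightDerived_zero _ _ (epi_push_pull _)
  | succ q ih =>
    intro F
    refine isZero_succ (ProEtS.epsPush X) (shortExact_map_epsPull (SiteCoh.embedSeq_shortExact F)) (q + 1) ?_ ?_
    · exact isZero_RepsPush_of_acyclic (q + 1) _ (cechAcyclic_epsPull _)
    · exact ⟨fun a b _ => (ih _).eq_of_src a b⟩

end Groth.Agent.EpsLan
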