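import Groth.Agent.AnLib.FlatLan
import Groth.Agent.WContr.ProEtSite
import Groth.Agent.ProEtCont.Basic
import Mathlib

/-!
Germs of the left Kan extension of an étale abelian sheaf to the small pro-étale site.
-/

set_option autoImplicit false
set_option backward.isDefEq.respectTransparency false
set_option backward.isDefEq.respectTransparency.types false
set_option linter.style.haveILetI false
set_option synthInstance.maxHeartbeats 200000

universe u

open CategoryTheory CategoryTheory.Limits AlgebraicGeometry Opposite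

namespace Groth.Agent.EpsLan

variable {X : Scheme.{u}}

instance flat_eps : RepresentablyFlat (ProEtS.eps X) :=
  haveI := Groth.Agent.ProEtCont.preservesFiniteLimits_eps X
  flat_of_preservesFiniteLimits _

theorem preservesColimitsOfShape_forget_large (J : Type (u + 1)) [Category.{u} J] [IsFiltered J] :
    PreservesColimitsOfShape J (forget AddCommGrpCat.{u + 1}) := by
  haveI : IsFiltered (ULiftHom.{u + 1} J) := IsFiltered.of_equivalence (AnLib.liftEquiv J)
  exact preservesColimitsOfShape_of_equiv (AnLib.liftEquiv J).symm (forget AddCommGrpCat.{u + 1})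

/-! ### Zero loci on the étale site -/

/-- an open of an étale scheme, as an étale scheme -/
noncomputable abbrev opn (V : X.Etale) (O : V.left.Opens) : X.Etale := Scheme.Etale.mk (O.ι ≫ V.hom)

/-- its inclusion -/
noncomputable abbrev opnHom (V : X.Etale) (O : V.left.Opens) : opn V O ⟶ V :=
  MorphismProperty.Over.homMk O.ι rfl

theorem left_comp {V₁ V₂ V₃ : X.Etale} (f : V₁ ⟶ V₂) (g : V₂ ⟶ V₃) : (f ≫ g).left = f.left ≫ g.left := rfl

theorem lift_opn {V W : X.Etale} (f : W ⟶ V) (O : V.left.Opens) (h : Set.range f.left ⊆ (O : Set V.left)) :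
    ∃ f' : W ⟶ opn V O, f' ≫ opnHom V O = f := by
  refine ⟨MorphismProperty.Over.homMk (IsOpenImmersion.lift O.ι f.left (h.trans (Scheme.Opens.range_ι O).ge)) ?_, ?_⟩
  · change IsOpenImmersion.lift O.ι f.left _ ≫ O.ι ≫ V.hom = W.hom
    rw [IsOpenImmersion.lift_fac_assoc]
    exact Over.w f.hom
  · apply MorphismProperty.Over.Hom.ext
    exact IsOpenImmersion.lift_fac _ _ _

theorem etale_left {V W : X.Etale} (f : W ⟶ V) : Etale f.left := by
  haveI : Etale (f.left ≫ V.hom) := by
    rw [show f.left ≫ V.hom = W.hom from Over.w f.hom]; exact W.prop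
  haveI : Etale V.hom := V.prop
  exact Etale.of_comp f.left V.hom

theorem mem_etale_topology {V : X.Etale} (R : Sieve V)
    (h : ∀ x : V.left, ∃ (W : X.Etale) (f : W ⟶ V) (y : W.left), R f ∧ f.left y = x) :
    R ∈ X.smallEtaleTopology V := by
  have eX : X.smallEtaleTopology = (X.smallPretopology (P := EtCoh.etaleMP) (Q := EtCoh.etaleMP)).toGrothendieck :=
    Scheme.smallGrothendieckTopology_eq_toGrothendieck_smallPretopology X le_rfl
  rw [eX]
  refine (Scheme.mem_toGrothendieck_smallPretopology V R).2 fun x => ?_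
  obtain ⟨W, f, y, hf, hy⟩ := h x
  exact ⟨W, f, y, hf, etale_left f, hy⟩

theorem sheaf_forget_etale (F : EtCoh.Ab X) :
    Presieve.IsSheaf X.smallEtaleTopology (F.obj ⋙ forget AddCommGrpCat.{u + 1}) :=
  (isSheaf_iff_isSheaf_of_type _ _).1 ((sheafCompose _ (forget AddCommGrpCat.{u + 1})).obj F).property

theorem sect_eq_zero_of_cover (F : EtCoh.Ab X) {V : X.Etale} (a : F.obj.obj (op V))
    (h : ∀ x : V.left, ∃ (W : X.Etale) (f : W ⟶ V) (y : W.left), F.obj.map f.op a = 0 ∧ f.left y = x) : a = 0 := by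
  let R : Sieve V :=
    { arrows := fun W => {f : W ⟶ V | F.obj.map f.op a = 0}
      downward_closed := fun {W W'} f hf g => by
        change F.obj.map (g ≫ f).op a = 0
        rw [op_comp, Functor.map_comp, ConcreteCategory.comp_apply]
        exact (congrArg (F.obj.map g.op) hf).trans (map_zero _) }
  refine ((sheaf_forget_etale F) R (mem_etale_topology R h)).isSeparatedFor.ext fun W f hf => ?_
  change F.obj.map f.op a = F.obj.map f.op 0
  rw [map_zero]
  exact hf

/-- the largest open on which a section vanishes -/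
noncomputable def zl (F : EtCoh.Ab X) {V : X.Etale} (a : F.obj.obj (op V)) : V.left.Opens :=
  sSup {O : V.left.Opens | F.obj.map (opnHom V O).op a = 0}

theorem mem_zl {F : EtCoh.Ab X} {V : X.Etale} {a : F.obj.obj (op V)} {x : V.left} :
    x ∈ zl F a ↔ ∃ O : V.left.Opens, F.obj.map (opnHom V O).op a = 0 ∧ x ∈ O := by
  simp [zl, TopologicalSpace.Opens.mem_sSup]

theorem map_eq_zero_iff_range (F : EtCoh.Ab X) {V W : X.Etale} (f : W ⟶ V) (a : F.obj.obj (op V)) :
    F.obj.map f.op a = 0 ↔ ∀ w : W.left, f.left w ∈ zl F a := by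
  constructor
  · intro h w
    haveI := etale_left f
    have hopen : IsOpen (Set.range f.left) := f.left.isOpenMap.isOpen_range
    let O : V.left.Opens := ⟨_, hopen⟩
    refine mem_zl.2 ⟨O, sect_eq_zero_of_cover F _ fun x => ?_, w, rfl⟩
    obtain ⟨f', hf'⟩ := lift_opn f O (fun _ h => h)
    obtain ⟨x', hx'⟩ : O.ι x ∈ (O : Set V.left) := (Scheme.Opens.range_ι O).le ⟨x, rfl⟩
    refine ⟨W, f', x', ?_, ?_⟩
    · rw [← ConcreteCategory.comp_apply, ← Functor.map_comp, ← op_comp, hf']
      exact h
    · apply O.ι.isOpenEmbedding.injective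
      exact (congrArg (fun m : W ⟶ V => m.left x') hf').trans hx'
  · intro h
    refine sect_eq_zero_of_cover F _ fun x => ?_
    obtain ⟨O, hO, hxO⟩ := mem_zl.1 (h x)
    let O' : W.left.Opens := f.left ⁻¹ᵁ O
    obtain ⟨f', hf'⟩ := lift_opn (opnHom W O' ≫ f) O (by
      rintro _ ⟨y, rfl⟩
      exact (Scheme.Opens.range_ι O').le ⟨y, rfl⟩)
    obtain ⟨y, hy⟩ : x ∈ Set.range O'.ι := by rw [Scheme.Opens.range_ι]; exact hxO
    refine ⟨opn W O', opnHom W O', y, ?_, hy⟩
    rw [← ConcreteCategory.comp_apply, ← Functor.map_comp, ← op_comp, ← hf', op_comp, Functor.map_comp,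
      ConcreteCategory.comp_apply, hO, map_zero]

theorem map_opnHom_zl (F : EtCoh.Ab X) {V : X.Etale} (a : F.obj.obj (op V)) (O : V.left.Opens) (hO : O ≤ zl F a) :
    F.obj.map (opnHom V O).op a = 0 :=
  (map_eq_zero_iff_range F _ a).2 fun w => hO ((Scheme.Opens.range_ι O).le ⟨w, rfl⟩)

/-! ### The left Kan extension -/

/-- the left Kan extension of `F` to the pro-étale site -/
noncomputable abbrev pre (F : EtCoh.Ab X) : X.ProEtᵒᵖ ⥤ AddCommGrpCat.{u + 1} :=
  (ProEtS.eps X).op.lan.obj F.obj

variable (F : EtCoh.Ab X)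

/-- its unit -/
noncomputable abbrev unit : F.obj ⟶ (ProEtS.eps X).op ⋙ pre F := (ProEtS.eps X).op.lanUnit.app F.obj

/-- the germ of a section along a map to an étale scheme -/
noncomputable def sec {T : X.ProEt} {V : X.Etale} (g : T ⟶ (ProEtS.eps X).obj V) :
    F.obj.obj (op V) →+ (pre F).obj (op T) :=
  ((pre F).map g.op).hom.comp ((unit F).app (op V)).hom

theorem sec_comp {T T' : X.ProEt} {V : X.Etale} (h : T' ⟶ T) (g : T ⟶ (ProEtS.eps X).obj V) (a : F.obj.obj (op V)) :
    (pre F).map h.op (sec F g a) = sec F (h ≫ g) a := by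
  change ((pre F).map g.op ≫ (pre F).map h.op) ((unit F).app (op V) a) = _
  rw [← Functor.map_comp]
  rfl

theorem sec_map {T : X.ProEt} {V V' : X.Etale} (q : V' ⟶ V) (g : T ⟶ (ProEtS.eps X).obj V')
    (a : F.obj.obj (op V)) : sec F (g ≫ (ProEtS.eps X).map q) a = sec F g (F.obj.map q.op a) := by
  rw [← sec_comp]
  change (pre F).map g.op ((pre F).map ((ProEtS.eps X).map q).op ((unit F).app (op V) a)) = _
  exact congrArg ((pre F).map g.op) (NatTrans.naturality_apply (unit F) q.op a).symm

/-- the pointwise colimit, on underlying sets -/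
noncomputable def col (T : X.ProEt) :=
  haveI : IsFiltered (CostructuredArrow (ProEtS.eps X).op (op T)) :=
    IsFiltered.of_equivalence (structuredArrowOpEquivalence (ProEtS.eps X) T)
  haveI := preservesColimitsOfShape_forget_large (CostructuredArrow (ProEtS.eps X).op (op T))
  isColimitOfPreserves (forget AddCommGrpCat.{u + 1})
    (Functor.isPointwiseLeftKanExtensionLeftKanExtensionUnit (ProEtS.eps X).op F.obj (op T))

theorem exists_sec {T : X.ProEt} (x : (pre F).obj (op T)) :
    ∃ (V : X.Etale) (g : T ⟶ (ProEtS.eps X).obj V) (a : F.obj.obj (op V)), sec F g a = x := by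
  obtain ⟨j, a, ha⟩ := Types.jointly_surjective_of_isColimit (col F T) x
  exact ⟨j.left.unop, j.hom.unop, a, ha⟩

theorem sec_eq_zero_iff {T : X.ProEt} {V : X.Etale} (g : T ⟶ (ProEtS.eps X).obj V) (a : F.obj.obj (op V)) :
    sec F g a = 0 ↔ ∀ t : T.left, g.left t ∈ zl F a := by
  constructor
  · intro h
    haveI : IsFiltered (CostructuredArrow (ProEtS.eps X).op (op T)) :=
      IsFiltered.of_equivalence (structuredArrowOpEquivalence (ProEtS.eps X) T)
    let i : CostructuredArrow (ProEtS.eps X).op (op T) :=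
      CostructuredArrow.mk (show (ProEtS.eps X).op.obj (op V) ⟶ op T from g.op)
    obtain ⟨j, φ, hφ⟩ := (Types.FilteredColimit.isColimit_eq_iff' (col F T) (i := i) a (0 : F.obj.obj (op V))).mp
      (h.trans (map_zero (sec F g)).symm)
    have hw : j.hom.unop ≫ (ProEtS.eps X).map φ.left.unop = g :=
      congrArg Quiver.Hom.unop (CostructuredArrow.w φ)
    intro t
    rw [← hw]
    have h0 : F.obj.map φ.left.unop.op a = 0 :=
      (show F.obj.map φ.left.unop.op a = F.obj.map φ.left.unop.op 0 from hφ).trans (map_zero _)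
    exact (map_eq_zero_iff_range F _ a).1 h0 (j.hom.unop.left t)
  · intro h
    have hr : Set.range g.left ⊆ (zl F a : Set V.left) := by rintro _ ⟨t, rfl⟩; exact h t
    let g' : T ⟶ (ProEtS.eps X).obj (opn V (zl F a)) :=
      MorphismProperty.Over.homMk (IsOpenImmersion.lift (zl F a).ι g.left (hr.trans (Scheme.Opens.range_ι _).ge)) (by
        change IsOpenImmersion.lift (zl F a).ι g.left _ ≫ (zl F a).ι ≫ V.hom = T.hom
        rw [IsOpenImmersion.lift_fac_assoc]
        exact Over.w g.hom)
    have hg : g' ≫ (ProEtS.eps X).map (opnHom V (zl F a)) = g := by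
      apply MorphismProperty.Over.Hom.ext
      exact IsOpenImmersion.lift_fac _ _ _
    rw [← hg, sec_map, map_opnHom_zl F a _ le_rfl, map_zero]

theorem exists_mem_of_covering {T : X.ProEt} (R : Sieve T) (hR : R ∈ Scheme.ProEt.topology X T) (t : T.left) :
    ∃ (T' : X.ProEt) (f : T' ⟶ T) (t' : T'.left), R f ∧ f.left t' = t := by
  obtain ⟨U, hU, htU, -⟩ : ∃ U : T.left.Opens, IsAffineOpen U ∧ t ∈ U ∧ U ≤ ⊤ :=
    TopologicalSpace.Opens.isBasis_iff_nbhd.mp T.left.isBasis_affineOpens (show t ∈ (⊤ : T.left.Opens) from trivial)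
  haveI : IsAffine (WContr.piece T U).left := hU
  obtain ⟨n, Z, g, -, hgR, hs⟩ := WContr.exists_finite_affine (WContr.piece T U) (R.pullback (WContr.pieceHom T U))
    ((Scheme.ProEt.topology X).pullback_stable _ hR)
  obtain ⟨x, hx⟩ : t ∈ Set.range U.ι := by rw [Scheme.Opens.range_ι]; exact htU
  obtain ⟨k, z, hz⟩ := hs x
  refine ⟨Z k, g k ≫ WContr.pieceHom T U, z, hgR k, ?_⟩
  change U.ι ((g k).left z) = t
  rw [hz, hx]

theorem eq_zero_of_covering {T : X.ProEt} (R : Sieve T) (hR : R ∈ Scheme.ProEt.topology X T)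
    (x : (pre F).obj (op T)) (h : ∀ (T' : X.ProEt) (f : T' ⟶ T), R f → (pre F).map f.op x = 0) : x = 0 := by
  obtain ⟨V, g, a, rfl⟩ := exists_sec F x
  rw [sec_eq_zero_iff]
  intro t
  obtain ⟨T', f, t', hf, ht⟩ := exists_mem_of_covering R hR t
  have h0 := h T' f hf
  rw [sec_comp, sec_eq_zero_iff] at h0
  rw [← ht]
  exact h0 t'

theorem toSheafify_injective (T : X.ProEt) :
    Function.Injective ((toSheafify (Scheme.ProEt.topology X) (pre F)).app (op T)) := by
  rw [injective_iff_map_eq_zero]
  intro x hx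
  refine eq_zero_of_covering F _
    (Presheaf.equalizerSieve_mem (Scheme.ProEt.topology X) (toSheafify (Scheme.ProEt.topology X) (pre F)) x 0
      (hx.trans (map_zero _).symm)) x fun T' f hf => ?_
  exact hf.trans (map_zero _)

end Groth.Agent.EpsLan
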