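import Groth.Prelude.Def_EtModW
import Groth.Agent.EpsLan.Acyclic
import Groth.Agent.RPlusComp.ModLan
import Mathlib

/-!
`ε⁻¹` on sheaves of modules is exact and fully faithful, with essential image closed under extensions.
-/

set_option autoImplicit false
set_option backward.isDefEq.respectTransparency false
set_option backward.isDefEq.respectTransparency.types false
set_option linter.style.haveILetI false
set_option synthInstance.maxHeartbeats 200000

universe u

open CategoryTheory CategoryTheory.Limits AlgebraicGeometry Opposite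

namespace Groth.Agent.EpsLan

variable (Λ : Type (u + 1)) [CommRing Λ] {X : Scheme.{u}}

/-- forgetting the scalars -/
noncomputable abbrev fg : ModuleCat.{u + 1} Λ ⥤ AddCommGrpCat.{u + 1} :=
  forget₂ (ModuleCat.{u + 1} Λ) AddCommGrpCat.{u + 1}

theorem preservesColimitsOfShape_fg (J : Type (u + 1)) [Category.{u} J] [IsFiltered J] :
    PreservesColimitsOfShape J (fg Λ) := by
  haveI : IsFiltered (ULiftHom.{u + 1} J) := IsFiltered.of_equivalence (AnLib.liftEquiv J)
  exact preservesColimitsOfShape_of_equiv (AnLib.liftEquiv J).symm _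

theorem preservesLan_fg (F : X.Etaleᵒᵖ ⥤ ModuleCat.{u + 1} Λ) :
    (fg Λ).PreservesLeftKanExtension F (ProEtS.eps X).op := by
  haveI : ∀ T, PreservesColimitsOfShape (CostructuredArrow (ProEtS.eps X).op T) (fg Λ) := fun T => by
    haveI : IsFiltered (CostructuredArrow (ProEtS.eps X).op T) :=
      IsFiltered.of_equivalence (structuredArrowOpEquivalence (ProEtS.eps X) (unop T))
    exact preservesColimitsOfShape_fg Λ _
  infer_instance

/-- the underlying étale abelian sheaf -/
noncomputable abbrev undE : EtModW.Mod Λ X ⥤ EtCoh.Ab X := sheafCompose X.smallEtaleTopology (fg Λ)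

/-- the underlying pro-étale abelian sheaf -/
noncomputable abbrev undP : EtModW.ModP Λ X ⥤ ProEtS.AbP X := sheafCompose (Scheme.ProEt.topology X) (fg Λ)

/-- the constructed pullback of modules -/
noncomputable abbrev GPM (F : EtModW.Mod Λ X) : EtModW.ModP Λ X :=
  (presheafToSheaf (Scheme.ProEt.topology X) (ModuleCat.{u + 1} Λ)).obj ((ProEtS.eps X).op.lan.obj F.obj)

/-- the sheafification map -/
noncomputable abbrev ηM (F : EtModW.Mod Λ X) : (ProEtS.eps X).op.lan.obj F.obj ⟶ (GPM Λ F).obj :=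
  toSheafify (Scheme.ProEt.topology X) ((ProEtS.eps X).op.lan.obj F.obj)

/-- the constructed unit for modules -/
noncomputable def unitMapM (F : EtModW.Mod Λ X) : F.obj ⟶ (ProEtS.eps X).op ⋙ (GPM Λ F).obj :=
  (ProEtS.eps X).op.lanUnit.app F.obj ≫ Functor.whiskerLeft (ProEtS.eps X).op (ηM Λ F)

/-- left Kan extension commutes with forgetting scalars -/
noncomputable def preIso (F : EtModW.Mod Λ X) :
    pre ((undE Λ).obj F) ≅ (ProEtS.eps X).op.lan.obj F.obj ⋙ fg Λ :=
  haveI := preservesLan_fg Λ F.obj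
  ((fg Λ).leftKanExtensionCompIsoOfPreserves F.obj (ProEtS.eps X).op).symm

theorem unit_preIso (F : EtModW.Mod Λ X) :
    unit ((undE Λ).obj F) ≫ Functor.whiskerLeft (ProEtS.eps X).op (preIso Λ F).hom =
      Functor.whiskerRight ((ProEtS.eps X).op.lanUnit.app F.obj) (fg Λ) := by
  haveI := preservesLan_fg Λ F.obj
  refine ((fg Λ).leftKanExtensionCompIsoOfPreserves_inv_fac F.obj (ProEtS.eps X).op).trans ?_
  ext V : 2
  exact Category.comp_id _

/-- the comparison of the two sheafified extensions -/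
noncomputable def θ (F : EtModW.Mod Λ X) : GP ((undE Λ).obj F) ⟶ (undP Λ).obj (GPM Λ F) :=
  ((sheafificationAdjunction (Scheme.ProEt.topology X) AddCommGrpCat.{u + 1}).homEquiv _ _).symm
    ((preIso Λ F).hom ≫ Functor.whiskerRight (ηM Λ F) (fg Λ))

theorem η_θ (F : EtModW.Mod Λ X) :
    η ((undE Λ).obj F) ≫ (θ Λ F).hom = (preIso Λ F).hom ≫ Functor.whiskerRight (ηM Λ F) (fg Λ) := by
  have h := ((sheafificationAdjunction (Scheme.ProEt.topology X) AddCommGrpCat.{u + 1}).homEquiv
    (pre ((undE Λ).obj F)) ((undP Λ).obj (GPM Λ F))).apply_symm_apply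
      ((preIso Λ F).hom ≫ Functor.whiskerRight (ηM Λ F) (fg Λ))
  rw [Adjunction.homEquiv_unit] at h
  exact h

theorem isIso_θ (F : EtModW.Mod Λ X) : IsIso (θ Λ F) := by
  haveI : Presheaf.IsLocallyInjective (Scheme.ProEt.topology X) (Functor.whiskerRight (ηM Λ F) (fg Λ)) :=
    ⟨fun x y h => Presheaf.equalizerSieve_mem (Scheme.ProEt.topology X) (ηM Λ F) x y h⟩
  haveI : Presheaf.IsLocallySurjective (Scheme.ProEt.topology X) (Functor.whiskerRight (ηM Λ F) (fg Λ)) :=
    ⟨fun s => Presheaf.imageSieve_mem (Scheme.ProEt.topology X) (ηM Λ F) s⟩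
  haveI : Presheaf.IsLocallyInjective (Scheme.ProEt.topology X)
      ((preIso Λ F).hom ≫ Functor.whiskerRight (ηM Λ F) (fg Λ)) := inferInstance
  haveI : Presheaf.IsLocallySurjective (Scheme.ProEt.topology X)
      ((preIso Λ F).hom ≫ Functor.whiskerRight (ηM Λ F) (fg Λ)) := inferInstance
  refine (Sheaf.isLocallyBijective_iff_isIso (A := AddCommGrpCat.{u + 1}) (θ Λ F)).1 ⟨?_, ?_⟩
  · exact Presheaf.isLocallyInjective_of_isLocallyInjective_of_isLocallySurjective_fac (Scheme.ProEt.topology X) _ (η_θ Λ F)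
  · exact Presheaf.isLocallySurjective_of_isLocallySurjective_fac _ (η_θ Λ F)

theorem bijective_unitMapM (F : EtModW.Mod Λ X) (V : X.Etale) [IsAffine V.left] :
    Function.Bijective ((unitMapM Λ F).app (op V)) := by
  haveI := isIso_θ Λ F
  have e : Functor.whiskerRight (unitMapM Λ F) (fg Λ) =
      unitMap ((undE Λ).obj F) ≫ Functor.whiskerLeft (ProEtS.eps X).op (θ Λ F).hom := by
    rw [unitMap, Category.assoc, ← Functor.whiskerLeft_comp, η_θ, Functor.whiskerLeft_comp,
      ← Category.assoc, unit_preIso]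
    exact Functor.whiskerRight_comp _ _ _
  have hθ : Function.Bijective ((θ Λ F).hom.app (op ((ProEtS.eps X).obj V))) := by
    haveI : IsIso (θ Λ F).hom := inferInstanceAs (IsIso ((sheafToPresheaf _ _).map (θ Λ F)))
    exact (ConcreteCategory.isIso_iff_bijective _).1 inferInstance
  have h := hθ.comp (bijective_unitMap ((undE Λ).obj F) V)
  have e2 := congrArg (fun m => NatTrans.app m (op V)) e
  exact (congrArg (fun m => Function.Bijective (ConcreteCategory.hom m)) e2).mpr h

theorem isIso_of_isIso_undE {F G : EtModW.Mod Λ X} (φ : F ⟶ G) [IsIso ((undE Λ).map φ)] : IsIso φ := by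
  haveI : IsIso ((undE Λ).map φ).hom := inferInstanceAs (IsIso ((sheafToPresheaf _ _).map ((undE Λ).map φ)))
  haveI : ∀ V, IsIso (φ.hom.app V) := fun V => by
    have h : Function.Bijective (((undE Λ).map φ).hom.app V) :=
      (ConcreteCategory.isIso_iff_bijective _).1 inferInstance
    exact (ConcreteCategory.isIso_iff_bijective _).2 h
  haveI : IsIso φ.hom := NatIso.isIso_of_isIso_app _
  haveI : IsIso ((sheafToPresheaf _ _).map φ) := inferInstanceAs (IsIso φ.hom)
  exact isIso_of_fully_faithful (sheafToPresheaf _ _) φ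

theorem isIso_unitMod [ProEtS.EpsCont X] (F : EtModW.Mod Λ X) :
    IsIso (((ProEtS.eps X).sheafAdjunctionContinuous (ModuleCat.{u + 1} Λ) X.smallEtaleTopology
      (Scheme.ProEt.topology X)).unit.app F) := by
  refine isIso_unit_of_adj _
    (Functor.sheafPullbackConstruction.sheafAdjunctionContinuous (ProEtS.eps X) (ModuleCat.{u + 1} Λ)
      X.smallEtaleTopology (Scheme.ProEt.topology X)) F ?_
  have hu := restrict_unit_hom (J := X.smallEtaleTopology) (K := Scheme.ProEt.topology X)
    ((ProEtS.eps X).op.lanAdjunction (ModuleCat.{u + 1} Λ)) F ((ProEtS.eps X).op.lanUnit.app F.obj)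
    (congrArg (fun α => NatTrans.app α F.obj) (Functor.lanAdjunction_unit _ _))
  haveI : IsIso ((undE Λ).map ((Functor.sheafPullbackConstruction.sheafAdjunctionContinuous (ProEtS.eps X)
      (ModuleCat.{u + 1} Λ) X.smallEtaleTopology (Scheme.ProEt.topology X)).unit.app F)) :=
    isIso_of_bijective_affine _ fun V hV => by
      have h2 := congrArg (fun m => NatTrans.app m (op V)) hu
      exact (congrArg (fun m => Function.Bijective (ConcreteCategory.hom m)) h2).mpr (bijective_unitMapM Λ F V)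
  exact isIso_of_isIso_undE Λ _

/-! ### Extensions -/

variable [ProEtS.EpsCont X]

omit [ProEtS.EpsCont X] in
theorem preservesFiniteLimits_undP : PreservesFiniteLimits (undP Λ (X := X)) := by
  haveI : PreservesFiniteLimits (undP Λ (X := X) ⋙ sheafToPresheaf _ _) :=
    inferInstanceAs (PreservesFiniteLimits
      (sheafToPresheaf _ _ ⋙ (Functor.whiskeringRight _ _ _).obj (fg Λ)))
  exact preservesFiniteLimits_of_reflects_of_preserves (undP Λ (X := X)) (sheafToPresheaf _ _)

/-- the underlying sheaf of a pullback -/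
theorem nonempty_undP_pull (A : EtModW.Mod Λ X) :
    Nonempty ((undP Λ).obj ((EtModW.epsPullMod Λ X).obj A) ≅ (ProEtS.epsPull X).obj ((undE Λ).obj A)) := by
  haveI := isIso_θ Λ A
  exact ⟨(undP Λ).mapIso ((Functor.sheafPullbackConstruction.sheafPullbackIso (ProEtS.eps X)
      (ModuleCat.{u + 1} Λ) X.smallEtaleTopology (Scheme.ProEt.topology X)).app A) ≪≫ (asIso (θ Λ A)).symm ≪≫
    ((Functor.sheafPullbackConstruction.sheafPullbackIso (ProEtS.eps X) AddCommGrpCat.{u + 1}
      X.smallEtaleTopology (Scheme.ProEt.topology X)).app ((undE Λ).obj A)).symm⟩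

omit [ProEtS.EpsCont X] in
instance additive_undP : (undP Λ (X := X)).Additive where

omit [ProEtS.EpsCont X] in
theorem shortExact_undP {T : ShortComplex (EtModW.ModP Λ X)} (hT : T.ShortExact) :
    (T.map (undP Λ)).ShortExact := by
  haveI := preservesFiniteLimits_undP Λ (X := X)
  haveI := hT.mono_f
  haveI := hT.epi_g
  haveI hs : Sheaf.IsLocallySurjective T.g :=
    (Sheaf.isLocallySurjective_iff_epi' (ModuleCat.{u + 1} Λ) T.g).2 inferInstance
  haveI : Sheaf.IsLocallySurjective ((undP Λ).map T.g) :=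
    ⟨fun s => Presheaf.imageSieve_mem (Scheme.ProEt.topology X) T.g.hom s⟩
  exact
    { exact := ShortComplex.exact_of_f_is_kernel _ (KernelFork.mapIsLimit _ hT.fIsKernel (undP Λ))
      mono_f := inferInstanceAs (Mono ((undP Λ).map T.f))
      epi_g := (Sheaf.isLocallySurjective_iff_epi' AddCommGrpCat.{u + 1} ((undP Λ).map T.g)).1 inferInstance }

theorem epi_epsPush_of_iso {S : ShortComplex (ProEtS.AbP X)} (hS : S.ShortExact) (A : EtCoh.Ab X)
    (e : S.X₁ ≅ (ProEtS.epsPull X).obj A) : Epi ((ProEtS.epsPush X).map S.g) := by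
  let T := RDerLib.res hS
  have h1 : IsZero ((ProEtS.RepsPush X 1).obj S.X₁) :=
    (isZero_RepsPush 0 A).of_iso ((ProEtS.RepsPush X 1).mapIso e)
  haveI : Epi (((ProEtS.epsPush X).rightDerived 0).map S.g) :=
    (RDerLib.exact₃ (ProEtS.epsPush X) T 0 1 rfl).epi_f (h1.eq_of_tgt _ _)
  have e0 : (ProEtS.epsPush X).map S.g = (ProEtS.epsPush X).rightDerivedZeroIsoSelf.inv.app S.X₂ ≫
      ((ProEtS.epsPush X).rightDerived 0).map S.g ≫
        (ProEtS.epsPush X).rightDerivedZeroIsoSelf.hom.app S.X₃ := by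
    rw [(ProEtS.epsPush X).rightDerivedZeroIsoSelf.hom.naturality S.g, Iso.inv_hom_id_app_assoc]
  rw [e0]
  infer_instance

/-- the essential image of `ε⁻¹` is weak Serre -/
theorem essImage_weakSerre :
    (∀ (F G : EtModW.ModP Λ X) (φ : F ⟶ G), (EtModW.epsPullMod Λ X).essImage F →
      (EtModW.epsPullMod Λ X).essImage G →
        (EtModW.epsPullMod Λ X).essImage (kernel φ) ∧ (EtModW.epsPullMod Λ X).essImage (cokernel φ)) ∧
    ∀ (T : ShortComplex (EtModW.ModP Λ X)), T.ShortExact →
      (EtModW.epsPullMod Λ X).essImage T.X₁ → (EtModW.epsPullMod Λ X).essImage T.X₃ →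
        (EtModW.epsPullMod Λ X).essImage T.X₂ := by
  let R := (ProEtS.eps X).sheafPushforwardContinuous (ModuleCat.{u + 1} Λ) X.smallEtaleTopology
    (Scheme.ProEt.topology X)
  let adj : EtModW.epsPullMod Λ X ⊣ R := (ProEtS.eps X).sheafAdjunctionContinuous (ModuleCat.{u + 1} Λ)
    X.smallEtaleTopology (Scheme.ProEt.topology X)
  haveI : ∀ F, IsIso (adj.unit.app F) := fun F => isIso_unitMod Λ F
  haveI : IsIso adj.unit := NatIso.isIso_of_isIso_app _
  haveI : (EtModW.epsPullMod Λ X).Full := (adj.fullyFaithfulLOfIsIsoUnit).full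
  haveI : (EtModW.epsPullMod Λ X).Faithful := (adj.fullyFaithfulLOfIsIsoUnit).faithful
  haveI : PreservesFiniteLimits (EtModW.epsPullMod Λ X) :=
    RPlusComp.ModLan.sheafPullback_preservesFiniteLimits Λ (ProEtS.eps X) _ _
  haveI := adj.leftAdjoint_preservesColimits
  haveI : PreservesFiniteColimits (EtModW.epsPullMod Λ X) := PreservesColimits.preservesFiniteColimits _
  haveI := adj.rightAdjoint_preservesLimits
  haveI : PreservesFiniteLimits R := PreservesLimits.preservesFiniteLimits _
  refine ⟨?_, ?_⟩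
  · rintro F G φ ⟨A, ⟨eA⟩⟩ ⟨B, ⟨eB⟩⟩
    obtain ⟨ψ, hψ⟩ := (EtModW.epsPullMod Λ X).map_surjective (eA.hom ≫ φ ≫ eB.inv)
    have hw : (EtModW.epsPullMod Λ X).map ψ ≫ eB.hom = eA.hom ≫ φ := by rw [hψ]; simp
    exact ⟨⟨kernel ψ, ⟨PreservesKernel.iso _ ψ ≪≫ kernel.mapIso _ _ eA eB hw⟩⟩,
      ⟨cokernel ψ, ⟨PreservesCokernel.iso _ ψ ≪≫ cokernel.mapIso _ _ eA eB hw⟩⟩⟩
  · rintro T hT ⟨A, ⟨eA⟩⟩ ⟨B, ⟨eB⟩⟩
    have hc : ∀ {F : EtModW.ModP Λ X} (A : EtModW.Mod Λ X), ((EtModW.epsPullMod Λ X).obj A ≅ F) →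
        IsIso (adj.counit.app F) := fun {F} A e => by
      have h0 : IsIso (adj.counit.app ((EtModW.epsPullMod Λ X).obj A)) := by
        have h' := adj.left_triangle_components A
        exact IsIso.of_isIso_fac_left h'
      exact (NatTrans.isIso_app_iff_of_iso adj.counit e).1 h0
    obtain ⟨eU⟩ := nonempty_undP_pull Λ A
    have hE : Epi ((ProEtS.epsPush X).map ((undP Λ).map T.g)) :=
      epi_epsPush_of_iso (shortExact_undP Λ hT) _ ((undP Λ).mapIso eA.symm ≪≫ eU)
    haveI : Epi (R.map T.g) := by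
      haveI hs : Sheaf.IsLocallySurjective ((ProEtS.epsPush X).map ((undP Λ).map T.g)) :=
        (Sheaf.isLocallySurjective_iff_epi' AddCommGrpCat.{u + 1} _).2 hE
      haveI : Sheaf.IsLocallySurjective (R.map T.g) :=
        ⟨fun s => Presheaf.imageSieve_mem X.smallEtaleTopology
          ((ProEtS.epsPush X).map ((undP Λ).map T.g)).hom s⟩
      exact (Sheaf.isLocallySurjective_iff_epi' (ModuleCat.{u + 1} Λ) _).1 inferInstance
    haveI := hT.mono_f
    have hR : (T.map R).ShortExact :=
      { exact := ShortComplex.exact_of_f_is_kernel _ (KernelFork.mapIsLimit _ hT.fIsKernel R)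
        mono_f := inferInstanceAs (Mono (R.map T.f))
        epi_g := inferInstanceAs (Epi (R.map T.g)) }
    let m : (T.map R).map (EtModW.epsPullMod Λ X) ⟶ T :=
      { τ₁ := adj.counit.app _, τ₂ := adj.counit.app _, τ₃ := adj.counit.app _
        comm₁₂ := (adj.counit.naturality T.f).symm
        comm₂₃ := (adj.counit.naturality T.g).symm }
    haveI := ShortComplex.isIso₂_of_shortExact_of_isIso₁₃' m (hR.map_of_exact _) hT (hc A eA) (hc B eB)
    exact ⟨R.obj T.X₂, ⟨asIso m.τ₂⟩⟩

end Groth.Agent.EpsLan
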