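import Groth.Agent.CechGen.Basic
import Mathlib

/-!
Fibre powers of a morphism as products in the slice category, with their Čech differential.
-/

set_option autoImplicit false
set_option backward.isDefEq.respectTransparency false
set_option backward.isDefEq.respectTransparency.types false
set_option linter.style.haveILetI false

universe u

open CategoryTheory CategoryTheory.Limits Opposite

namespace Groth.Agent.EpsLan

variable {C : Type (u + 1)} [Category.{u} C] [HasFiniteLimits C] {Z W : C}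

/-- the constant family -/
noncomputable abbrev fam (f : Z ⟶ W) : PUnit.{u + 2} → Over W := fun _ => Over.mk f

/-- the index tuple -/
abbrev tup (n : ℕ) : Fin (n + 1) → PUnit.{u + 2} := fun _ => PUnit.unit

/-- the fibre power over the base -/
noncomputable abbrev pwrO (f : Z ⟶ W) (n : ℕ) : Over W := CechGen.tupleProd (fam f) (tup n)

/-- the fibre power -/
noncomputable abbrev pwr (f : Z ⟶ W) (n : ℕ) : C := (pwrO f n).left

/-- its projections -/
noncomputable def pproj (f : Z ⟶ W) (n : ℕ) (i : Fin (n + 1)) : pwr f n ⟶ Z := (Pi.π (fam f ∘ tup n) i).left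

theorem pproj_comp (f : Z ⟶ W) (n : ℕ) (i : Fin (n + 1)) : pproj f n i ≫ f = (pwrO f n).hom :=
  Over.w (Pi.π (fam f ∘ tup n) i)

/-- maps into the fibre power -/
noncomputable def plift (f : Z ⟶ W) {n : ℕ} {T : C} (m : Fin (n + 1) → (T ⟶ Z))
    (h : ∀ i, m i ≫ f = m 0 ≫ f) : T ⟶ pwr f n :=
  (Pi.lift fun i => (Over.homMk (m i) (h i) : Over.mk (m 0 ≫ f) ⟶ Over.mk f)).left

theorem plift_proj (f : Z ⟶ W) {n : ℕ} {T : C} (m : Fin (n + 1) → (T ⟶ Z)) (h : ∀ i, m i ≫ f = m 0 ≫ f)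
    (i : Fin (n + 1)) : plift f m h ≫ pproj f n i = m i := by
  unfold plift pproj
  rw [← Over.comp_left]
  erw [Pi.lift_π]
  rfl

theorem pwr_hom_ext {f : Z ⟶ W} {n : ℕ} {T : C} (a b : T ⟶ pwr f n)
    (h : ∀ i, a ≫ pproj f n i = b ≫ pproj f n i) : a = b := by
  have hb : b ≫ (pwrO f n).hom = a ≫ (pwrO f n).hom := by
    rw [← pproj_comp f n 0, ← Category.assoc, ← Category.assoc, h]
  have : (Over.homMk a : Over.mk (a ≫ (pwrO f n).hom) ⟶ pwrO f n) = Over.homMk b hb :=
    Pi.hom_ext _ _ fun i => Over.OverMorphism.ext (h i)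
  exact congrArg CommaMorphism.left this

theorem pproj_comm (f : Z ⟶ W) (n : ℕ) (i j : Fin (n + 1)) : pproj f n i ≫ f = pproj f n j ≫ f :=
  (pproj_comp f n i).trans (pproj_comp f n j).symm

/-- forgetting one factor -/
noncomputable def pdrop (f : Z ⟶ W) (n : ℕ) (k : Fin (n + 2)) : pwr f (n + 1) ⟶ pwr f n :=
  plift f (fun i => pproj f (n + 1) (k.succAbove i)) fun _ => pproj_comm f _ _ _

theorem pdrop_proj (f : Z ⟶ W) (n : ℕ) (k : Fin (n + 2)) (i : Fin (n + 1)) :
    pdrop f n k ≫ pproj f n i = pproj f (n + 1) (k.succAbove i) := plift_proj _ _ _ _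

theorem pdrop_eq (f : Z ⟶ W) (n : ℕ) (k : Fin (n + 2)) :
    pdrop f n k = (CechGen.tupleDrop (fam f) (tup (n + 1)) k).left := by
  refine pwr_hom_ext _ _ fun i => ?_
  rw [pdrop_proj, pproj, pproj, ← Over.comp_left]
  erw [Pi.lift_π]

/-! ### maps of fibre powers -/

variable {Z' W' : C} {f : Z ⟶ W} {f' : Z' ⟶ W'}

/-- the map of fibre powers attached to a square -/
noncomputable def pmap (a : Z ⟶ Z') (b : W ⟶ W') (h : a ≫ f' = f ≫ b) (n : ℕ) : pwr f n ⟶ pwr f' n :=
  plift f' (fun i => pproj f n i ≫ a) fun i => by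
    rw [Category.assoc, Category.assoc, h, ← Category.assoc, ← Category.assoc, pproj_comm f n i 0]

theorem pmap_proj (a : Z ⟶ Z') (b : W ⟶ W') (h : a ≫ f' = f ≫ b) (n : ℕ) (i : Fin (n + 1)) :
    pmap a b h n ≫ pproj f' n i = pproj f n i ≫ a := plift_proj _ _ _ _

theorem pdrop_pmap (a : Z ⟶ Z') (b : W ⟶ W') (h : a ≫ f' = f ≫ b) (n : ℕ) (k : Fin (n + 2)) :
    pdrop f n k ≫ pmap a b h n = pmap a b h (n + 1) ≫ pdrop f' n k := by
  refine pwr_hom_ext _ _ fun i => ?_
  rw [Category.assoc, Category.assoc, pmap_proj, pdrop_proj, pmap_proj, ← Category.assoc, pdrop_proj]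

/-- the first power is the object -/
noncomputable def pone (f : Z ⟶ W) : Z ⟶ pwr f 0 := plift f (fun _ => 𝟙 Z) fun _ => rfl

theorem pone_proj (f : Z ⟶ W) : pone f ≫ pproj f 0 0 = 𝟙 Z := plift_proj _ _ _ _

theorem proj_pone (f : Z ⟶ W) : pproj f 0 0 ≫ pone f = 𝟙 (pwr f 0) := by
  refine pwr_hom_ext _ _ fun i => ?_
  rw [Fin.fin_one_eq_zero i, Category.assoc, pone_proj, Category.comp_id, Category.id_comp]

/-! ### The differential -/

variable (P Q : Cᵒᵖ ⥤ AddCommGrpCat.{u + 1})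

/-- the Čech differential -/
noncomputable def pd (f : Z ⟶ W) {n : ℕ} (x : P.obj (op (pwr f n))) : P.obj (op (pwr f (n + 1))) :=
  ∑ k : Fin (n + 2), (-1 : ℤ) ^ (k : ℕ) • P.map (pdrop f n k).op x

theorem pd_sub (f : Z ⟶ W) {n : ℕ} (x y : P.obj (op (pwr f n))) : pd P f (x - y) = pd P f x - pd P f y := by
  simp only [pd, map_sub, smul_sub, Finset.sum_sub_distrib]

theorem pd_zero (f : Z ⟶ W) {n : ℕ} : pd P f (0 : P.obj (op (pwr f n))) = 0 := by
  simp only [pd, map_zero, smul_zero, Finset.sum_const_zero]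

theorem pd_map (a : Z ⟶ Z') (b : W ⟶ W') (h : a ≫ f' = f ≫ b) {n : ℕ} (x : P.obj (op (pwr f' n))) :
    P.map (pmap a b h (n + 1)).op (pd P f' x) = pd P f (P.map (pmap a b h n).op x) := by
  rw [pd, pd, map_sum]
  refine Finset.sum_congr rfl fun k _ => ?_
  rw [map_zsmul, ← ConcreteCategory.comp_apply, ← ConcreteCategory.comp_apply, ← Functor.map_comp,
    ← Functor.map_comp, ← op_comp, ← op_comp, pdrop_pmap]

theorem pd_natTrans (φ : P ⟶ Q) (f : Z ⟶ W) {n : ℕ} (x : P.obj (op (pwr f n))) :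
    φ.app _ (pd P f x) = pd Q f (φ.app _ x) := by
  rw [pd, pd, map_sum]
  refine Finset.sum_congr rfl fun k _ => ?_
  rw [map_zsmul, NatTrans.naturality_apply]

/-- all higher Čech cohomology of `f` vanishes -/
def PExact (f : Z ⟶ W) : Prop :=
  ∀ (n : ℕ) (x : P.obj (op (pwr f (n + 1)))), pd P f x = 0 → ∃ y : P.obj (op (pwr f n)), pd P f y = x

theorem cd_eq_pd (f : Z ⟶ W) {n : ℕ} (x : CechGen.Cochain (fam f) ((Over.forget W).op ⋙ P) n) :
    CechGen.cd (fam f) ((Over.forget W).op ⋙ P) x (tup (n + 1)) = pd P f (x (tup n)) := by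
  rw [CechGen.cd_sum, pd]
  refine Finset.sum_congr rfl fun k _ => ?_
  rw [pdrop_eq]
  rfl

theorem pExact_of_injective [LocallySmall.{u + 1} C] [Injective P] (f : Z ⟶ W) : PExact P f := by
  intro n x hx
  obtain ⟨y, hy⟩ := CechGen.cechExact_injective (fam f) P n (fun _ => x) (funext fun a => by
    exact (cd_eq_pd P f (n := n + 1) (fun _ => x)).trans hx)
  exact ⟨y (tup n), (cd_eq_pd P f y).symm.trans (congrFun hy (tup (n + 1)))⟩

theorem pd_pd (f : Z ⟶ W) {n : ℕ} (x : P.obj (op (pwr f n))) : pd P f (pd P f x) = 0 := by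
  let R := (Over.forget W).op ⋙ P
  let x' : CechGen.Cochain (fam f) R n := fun _ => x
  have h : CechGen.cd (fam f) R (CechGen.cd (fam f) R x') = 0 := by
    obtain ⟨z, hz⟩ := (CechGen.cochainEquiv (fam f) R n).surjective x'
    rw [← hz, ← CechGen.cochainEquiv_d, ← CechGen.cochainEquiv_d, ← ConcreteCategory.comp_apply,
      HomologicalComplex.d_comp_d]
    exact map_zero _
  refine Eq.trans ?_ (congrFun h (tup (n + 2)))
  rw [cd_eq_pd, cd_eq_pd]

/-- degree zero -/
theorem pd_proj_zero (f : Z ⟶ W) (v : P.obj (op Z)) :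
    pd P f (P.map (pproj f 0 0).op v) = P.map (pproj f 1 1).op v - P.map (pproj f 1 0).op v := by
  rw [pd, Fin.sum_univ_two, ← ConcreteCategory.comp_apply, ← ConcreteCategory.comp_apply, ← Functor.map_comp,
    ← Functor.map_comp, ← op_comp, ← op_comp, pdrop_proj, pdrop_proj]
  simp [sub_eq_add_neg]

/-! ### Fibre powers and functors -/

variable {E : Type (u + 1)} [Category.{u} E] (G : C ⥤ E)

theorem map_pwr_ext (f : Z ⟶ W) (n : ℕ) [PreservesLimitsOfShape (Discrete (Fin (n + 1))) (Over.post (X := W) G)]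
    {T : E} (a b : T ⟶ G.obj (pwr f n)) (h : ∀ i, a ≫ G.map (pproj f n i) = b ≫ G.map (pproj f n i)) : a = b := by
  let hl := isLimitFanMkObjOfIsLimit (Over.post (X := W) G) _ _ (productIsProduct (fam f ∘ tup n))
  have hb : b ≫ G.map (pwrO f n).hom = a ≫ G.map (pwrO f n).hom := by
    rw [← pproj_comp f n 0, Functor.map_comp, ← Category.assoc, ← Category.assoc, h]
  have : (Over.homMk a : Over.mk (a ≫ G.map (pwrO f n).hom) ⟶ (Over.post (X := W) G).obj (pwrO f n)) =
      Over.homMk b hb := Fan.IsLimit.hom_ext hl _ _ fun i => Over.OverMorphism.ext (h i)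
  exact congrArg CommaMorphism.left this

theorem exists_map_pwr_lift (f : Z ⟶ W) (n : ℕ)
    [PreservesLimitsOfShape (Discrete (Fin (n + 1))) (Over.post (X := W) G)] {T : E}
    (m : Fin (n + 1) → (T ⟶ G.obj Z)) (h : ∀ i, m i ≫ G.map f = m 0 ≫ G.map f) :
    ∃ a : T ⟶ G.obj (pwr f n), ∀ i, a ≫ G.map (pproj f n i) = m i := by
  let hl := isLimitFanMkObjOfIsLimit (Over.post (X := W) G) _ _ (productIsProduct (fam f ∘ tup n))
  let L := Fan.IsLimit.lift hl (A := Over.mk (m 0 ≫ G.map f))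
    fun i => (Over.homMk (m i) (h i) : Over.mk (m 0 ≫ G.map f) ⟶ (Over.post (X := W) G).obj (Over.mk f))
  exact ⟨L.left, fun i => congrArg CommaMorphism.left (Fan.IsLimit.fac hl _ i)⟩

end Groth.Agent.EpsLan
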