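import Groth.Agent.EpsLan.Pres
import Groth.Agent.EpsLan.Pwr
import Groth.Agent.S0176
import Groth.Agent.IndEtLib.Cat
import Groth.Agent.WContr.ProEtCover
import Groth.Agent.WContr.ProEtSheafify
import Mathlib

/-!
Ind-étale affines have presentations; coverings by presented objects; refinements.
-/

set_option autoImplicit false
set_option backward.isDefEq.respectTransparency false
set_option backward.isDefEq.respectTransparency.types false
set_option linter.style.haveILetI false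
set_option synthInstance.maxHeartbeats 200000

universe u

open CategoryTheory CategoryTheory.Limits AlgebraicGeometry Opposite

namespace Groth.Agent.EpsLan

variable {X : Scheme.{u}}

/-- a factorisation through an affine étale scheme by an ind-étale ring map gives a presentation -/
theorem nonempty_pres_of_ind {W : X.ProEt} {V : X.Etale} [IsAffine V.left] (g : W ⟶ (ProEtS.eps X).obj V)
    {B : CommRingCat.{u}} (e : W.left ≅ Spec B) (φ : Γ(V.left, ⊤) ⟶ B)
    (hφ : MorphismProperty.ind.{u} IndEtLib.etaleP φ) (he : e.hom ≫ Spec.map φ ≫ V.left.isoSpec.inv = g.left) :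
    Nonempty (Pres W) := by
  obtain ⟨J, _, _, D, s, t, hc, hst⟩ := hφ
  haveI hEt : ∀ j, Etale (Spec.map (s.app j)) := fun j => HasRingHomProperty.Spec_iff.mpr (hst j).1
  haveI : Etale V.hom := V.prop
  let obj : ∀ j : Jᵒᵖ, X.Etale := fun j =>
    Scheme.Etale.mk (Spec.map (s.app j.unop) ≫ V.left.isoSpec.inv ≫ V.hom)
  have hs : ∀ {i j : J} (f : i ⟶ j), s.app i ≫ D.map f = s.app j := fun f =>
    (s.naturality f).symm.trans (Category.id_comp _)
  have ht : ∀ {i j : J} (f : i ⟶ j), D.map f ≫ t.app j = t.app i := fun f =>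
    (t.naturality f).trans (Category.comp_id _)
  let D' : Jᵒᵖ ⥤ X.Etale :=
    { obj := obj
      map := fun {i j} f => MorphismProperty.Over.homMk (Spec.map (D.map f.unop)) (by
        change Spec.map (D.map f.unop) ≫ Spec.map (s.app j.unop) ≫ V.left.isoSpec.inv ≫ V.hom =
          Spec.map (s.app i.unop) ≫ V.left.isoSpec.inv ≫ V.hom
        rw [← Spec.map_comp_assoc, hs])
      map_id := fun i => MorphismProperty.Over.Hom.ext (by
        change Spec.map (D.map (𝟙 i.unop)) = 𝟙 _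
        rw [D.map_id, Spec.map_id])
      map_comp := fun {i j k} f f' => MorphismProperty.Over.Hom.ext (by
        change Spec.map (D.map (f'.unop ≫ f.unop)) = Spec.map (D.map f.unop) ≫ Spec.map (D.map f'.unop)
        rw [D.map_comp, Spec.map_comp]) }
  let π : ∀ i, W ⟶ (ProEtS.eps X).obj (D'.obj i) := fun i =>
    MorphismProperty.Over.homMk (e.hom ≫ Spec.map (t.app i.unop)) (by
      change (e.hom ≫ Spec.map (t.app i.unop)) ≫ Spec.map (s.app i.unop) ≫ V.left.isoSpec.inv ≫ V.hom = W.hom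
      rw [Category.assoc, ← Spec.map_comp_assoc, (hst i.unop).2]
      refine Eq.trans ?_ (Over.w g.hom)
      change e.hom ≫ Spec.map φ ≫ V.left.isoSpec.inv ≫ V.hom = g.left ≫ V.hom
      rw [← he, Category.assoc, Category.assoc])
  have w : ∀ {i j : Jᵒᵖ} (f : i ⟶ j), π i ≫ (ProEtS.eps X).map (D'.map f) = π j := fun {i j} f => by
    apply MorphismProperty.Over.Hom.ext
    change (e.hom ≫ Spec.map (t.app i.unop)) ≫ Spec.map (D.map f.unop) = e.hom ≫ Spec.map (t.app j.unop)
    rw [Category.assoc, ← Spec.map_comp, ht]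
  refine ⟨{ I := Jᵒᵖ, D := D', cpt := fun i => ?_, qsp := fun i => ?_, affT := fun {i j} f => ?_, π := π, w := w,
              lim := ?_ }⟩
  · exact inferInstanceAs (CompactSpace (Spec (D.obj i.unop)))
  · exact inferInstanceAs (QuasiSeparatedSpace (Spec (D.obj i.unop)))
  · exact inferInstanceAs (IsAffineHom (Spec.map (D.map f.unop)))
  · exact IsLimit.ofIsoLimit (isLimitOfPreserves Scheme.Spec hc.op) (Cone.ext e.symm fun i => by
      change Spec.map (t.app i.unop) = e.inv ≫ e.hom ≫ Spec.map (t.app i.unop)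
      rw [e.inv_hom_id_assoc])

/-- affine étale schemes are presented -/
theorem nonempty_pres_eps (V : X.Etale) [IsAffine V.left] : Nonempty (Pres ((ProEtS.eps X).obj V)) :=
  nonempty_pres_of_ind (𝟙 _) V.left.isoSpec (𝟙 _)
    (MorphismProperty.le_ind _ _ (RingHom.Etale.containsIdentities _)) (by
      rw [Spec.map_id, Category.id_comp, Iso.hom_inv_id]
      rfl)

/-- presented objects are ind-étale over an étale affine -/
theorem Pres.exists_ind {W : X.ProEt} (P : Pres W) (hP : ∀ i, IsAffine (P.D.obj i).left) :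
    ∃ (V : X.Etale) (_ : IsAffine V.left) (g : W ⟶ (ProEtS.eps X).obj V),
      MorphismProperty.ind.{u} IndEtLib.etaleP g.left.appTop := by
  obtain ⟨i₀⟩ := IsCofiltered.nonempty (C := P.I)
  refine ⟨P.D.obj i₀, hP i₀, P.π i₀, ?_⟩
  let S : Over i₀ ⥤ Scheme.{u} := Over.forget i₀ ⋙ schDia P.D
  haveI : ∀ {i j : Over i₀} (f : i ⟶ j), IsAffineHom (S.map f) := fun f => Pres.isAffineHom_map P f.left
  haveI : ∀ i, CompactSpace (S.obj i) := fun i => Pres.compactSpace_obj P i.left
  haveI : ∀ i, QuasiSeparatedSpace (S.obj i) := fun i => Pres.quasiSeparatedSpace_obj P i.left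
  obtain ⟨hcol⟩ := nonempty_isColimit_Γ_mapCocone S ((schCone P.D P.π P.w).whisker (Over.forget i₀))
    ((Functor.Initial.isLimitWhiskerEquiv (Over.forget i₀) _).symm P.lim)
  let s : (Functor.const (Over i₀)ᵒᵖ).obj (Γ((P.D.obj i₀).left, ⊤)) ⟶ S.op ⋙ Scheme.Γ :=
    { app := fun j => (P.D.map j.unop.hom).left.appTop
      naturality := fun j j' f => by
        change 𝟙 _ ≫ (P.D.map j'.unop.hom).left.appTop =
          (P.D.map j.unop.hom).left.appTop ≫ (P.D.map f.unop.left).left.appTop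
        refine (Category.id_comp _).trans ?_
        rw [← Scheme.Hom.comp_appTop, ← left_comp, ← Functor.map_comp, Over.w f.unop] }
  refine ⟨(Over i₀)ᵒᵖ, inferInstance, inferInstance, S.op ⋙ Scheme.Γ, s,
    (Scheme.Γ.mapCocone ((schCone P.D P.π P.w).whisker (Over.forget i₀)).op).ι, hcol, fun j => ⟨?_, ?_⟩⟩
  · let m : (P.D.obj j.unop.left).left ⟶ (P.D.obj i₀).left := (P.D.map j.unop.hom).left
    haveI : IsAffine (P.D.obj i₀).left := hP i₀
    haveI : IsAffine (P.D.obj j.unop.left).left := hP j.unop.left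
    haveI : Etale m := etale_left (P.D.map j.unop.hom)
    exact HasRingHomProperty.appTop (P := @Etale) m inferInstance
  · let m : (P.D.obj j.unop.left).left ⟶ (P.D.obj i₀).left := (P.D.map j.unop.hom).left
    let a : W.left ⟶ (P.D.obj j.unop.left).left := (P.π j.unop.left).left
    let b : W.left ⟶ (P.D.obj i₀).left := (P.π i₀).left
    have e : a ≫ m = b := (schCone P.D P.π P.w).w j.unop.hom
    exact (Scheme.Hom.comp_appTop a m).symm.trans (congrArg Scheme.Hom.appTop e)

/-- affine objects over an étale affine have presented covers -/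
theorem exists_pres_cover (T : X.ProEt) [IsAffine T.left] {V : X.Etale} [IsAffine V.left]
    (g : T ⟶ (ProEtS.eps X).obj V) :
    ∃ (Z : X.ProEt) (p : Z ⟶ T), Nonempty (Pres Z) ∧ Surjective p.left := by
  haveI : WeaklyEtale g.left := by
    haveI : WeaklyEtale (g.left ≫ ((ProEtS.eps X).obj V).hom) := by
      rw [show g.left ≫ ((ProEtS.eps X).obj V).hom = T.hom from Over.w g.hom]; exact T.prop
    exact WeaklyEtale.of_comp g.left ((ProEtS.eps X).obj V).hom
  let gl : T.left ⟶ V.left := g.left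
  haveI : WeaklyEtale gl := ‹WeaklyEtale g.left›
  letI : Algebra Γ(V.left, ⊤) Γ(T.left, ⊤) := gl.appTop.hom.toAlgebra
  haveI : Algebra.WeaklyEtale Γ(V.left, ⊤) Γ(T.left, ⊤) := WContr.weaklyEtale_appTop gl
  obtain ⟨B', _, _, _, _, hff, hindT, hindV⟩ := Groth.Agent.S0176.result Γ(V.left, ⊤) Γ(T.left, ⊤)
  let φ : Γ(T.left, ⊤) ⟶ CommRingCat.of B' := CommRingCat.ofHom (algebraMap Γ(T.left, ⊤) B')
  haveI : WeaklyEtale (Spec.map φ) := by
    refine (Groth.Agent.WeakEt.specMap_iff φ).2 ?_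
    change @Algebra.WeaklyEtale Γ(T.left, ⊤) B' _ _ (algebraMap Γ(T.left, ⊤) B').toAlgebra
    convert Groth.Agent.IndEtLib.weaklyEtale hindT
    exact Algebra.algebra_ext _ _ fun _ => rfl
  haveI : Surjective (Spec.map φ) := ⟨fun x => PrimeSpectrum.comap_surjective_of_faithfullyFlat (B := B') x⟩
  let f : Spec (CommRingCat.of B') ⟶ T.left := Spec.map φ ≫ T.left.isoSpec.inv
  let Z : X.ProEt := Scheme.ProEt.mk (f ≫ T.hom)
  let p : Z ⟶ T := MorphismProperty.Over.homMk f rfl
  refine ⟨Z, p, nonempty_pres_of_ind (p ≫ g) (Iso.refl _) (gl.appTop ≫ φ) ?_ ?_,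
    inferInstanceAs (Surjective f)⟩
  · have h2 := (IndEtLib.isIndEtale_iff _ _).1 hindV
    rwa [IsScalarTower.algebraMap_eq Γ(V.left, ⊤) Γ(T.left, ⊤) B', CommRingCat.ofHom_comp] at h2
  · change 𝟙 _ ≫ Spec.map (gl.appTop ≫ φ) ≫ V.left.isoSpec.inv = f ≫ gl
    rw [Category.id_comp, Spec.map_comp, Category.assoc, Scheme.isoSpec_inv_naturality, Category.assoc]

/-- finite disjoint unions -/
noncomputable abbrev sigmaObj {ι : Type} (Y : ι → X.ProEt) : X.ProEt :=
  haveI : WeaklyEtale (Sigma.desc fun k => (Y k).hom) :=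
    IsZariskiLocalAtSource.sigmaDesc (P := @WeaklyEtale) fun _ => inferInstance
  Scheme.ProEt.mk (Sigma.desc fun k => (Y k).hom)

/-- their inclusions -/
noncomputable abbrev sigmaInj {ι : Type} (Y : ι → X.ProEt) (k : ι) : Y k ⟶ sigmaObj Y :=
  MorphismProperty.Over.homMk (Sigma.ι (fun k => (Y k).left) k) (Sigma.ι_desc _ _)

/-- maps out of them -/
noncomputable abbrev sigmaOut {ι : Type} (Y : ι → X.ProEt) {W : X.ProEt} (y : ∀ k, Y k ⟶ W) : sigmaObj Y ⟶ W :=
  MorphismProperty.Over.homMk (Sigma.desc fun k => (y k).left) (Sigma.hom_ext _ _ fun k => by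
    change Sigma.ι (fun k => (Y k).left) k ≫ Sigma.desc (fun k => (y k).left) ≫ W.hom =
      Sigma.ι (fun k => (Y k).left) k ≫ Sigma.desc (fun k => (Y k).hom)
    rw [Sigma.ι_desc_assoc, Sigma.ι_desc]
    exact Over.w (y k).hom)

theorem sigmaInj_out {ι : Type} (Y : ι → X.ProEt) {W : X.ProEt} (y : ∀ k, Y k ⟶ W) (k : ι) :
    sigmaInj Y k ≫ sigmaOut Y y = y k :=
  MorphismProperty.Over.Hom.ext (Sigma.ι_desc (fun k => (y k).left) k)

theorem sigma_glue {ι : Type} (Y : ι → X.ProEt) {P : (X.ProEt)ᵒᵖ ⥤ Type (u + 1)}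
    (hP : Presieve.IsSheaf (Scheme.ProEt.topology X) P) (t : ∀ k, P.obj (op (Y k))) :
    ∃! s : P.obj (op (sigmaObj Y)), ∀ k, P.map (sigmaInj Y k).op s = t k := by
  haveI : ∀ k, IsOpenImmersion (sigmaInj Y k).left := fun k =>
    inferInstanceAs (IsOpenImmersion (Sigma.ι (fun k => (Y k).left) k))
  refine WContr.existsUnique_glue_family hP Y (sigmaInj Y) (fun x => ?_) (fun a b hab => ?_) t
  · exact ⟨(sigmaOpenCover fun k => (Y k).left).idx x, (sigmaOpenCover fun k => (Y k).left).covers x⟩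
  · have := TopologicalSpace.Opens.coe_disjoint.mpr (disjoint_opensRange_sigmaι (fun k => (Y k).left) a b hab)
    rwa [Scheme.Hom.coe_opensRange, Scheme.Hom.coe_opensRange] at this

/-- finite affine refinements of covering sieves of compact objects -/
theorem exists_finite_affine_compact (U : X.ProEt) [CompactSpace U.left] (R : Sieve U)
    (hR : R ∈ Scheme.ProEt.topology X U) :
    ∃ (n : ℕ) (Z : Fin n → X.ProEt) (g : ∀ k, Z k ⟶ U),
      (∀ k, IsAffine (Z k).left) ∧ (∀ k, R (g k)) ∧ ∀ x : U.left, ∃ k, x ∈ Set.range (g k).left := by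
  haveI : (Scheme.ProEt.precoverage X).IsStableUnderComposition := by
    unfold Scheme.ProEt.precoverage; infer_instance
  haveI : (Scheme.ProEt.precoverage X).IsStableUnderBaseChange := by
    unfold Scheme.ProEt.precoverage; infer_instance
  haveI : (Scheme.ProEt.precoverage X).HasIsos := by
    unfold Scheme.ProEt.precoverage; infer_instance
  rw [Scheme.ProEt.topology, Precoverage.mem_toGrothendieck_iff_of_isStableUnderComposition] at hR
  obtain ⟨P, hP, hPR⟩ := hR
  obtain ⟨ι, W, w, rfl⟩ := P.exists_eq_ofArrows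
  rw [Scheme.ProEt.precoverage, Precoverage.mem_comap_iff, Presieve.map_ofArrows] at hP
  let E : PreZeroHypercover U.left := ⟨ι, fun i => (W i).left, fun i => (w i).left⟩
  haveI : QuasiCompactCover E := Scheme.presieve₀_mem_qcPrecoverage_iff.mp hP.1
  obtain ⟨n, a, V, hV, huV⟩ := QuasiCompactCover.exists_isAffineOpen_of_isCompact E (U := ⊤) isCompact_univ
  let Z : Fin n → X.ProEt := fun k => Scheme.ProEt.mk ((V k).ι ≫ (W (a k)).hom)
  let g : ∀ k, Z k ⟶ U := fun k => (MorphismProperty.Over.homMk (V k).ι rfl : Z k ⟶ W (a k)) ≫ w (a k)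
  refine ⟨n, Z, g, fun k => hV k, fun k => R.downward_closed (hPR _ _ (Presieve.ofArrows.mk (a k))) _, fun x => ?_⟩
  obtain ⟨k, y, hy, rfl⟩ := Set.mem_iUnion.mp (huV.ge (Set.mem_univ x))
  obtain ⟨z, rfl⟩ := (Scheme.Opens.range_ι (V k)).ge hy
  exact ⟨k, z, Scheme.Hom.comp_apply _ _ z⟩

/-- refinement by affines lying over affine opens of an étale scheme -/
theorem exists_finite_affine_over {W : X.ProEt} [CompactSpace W.left] {V : X.Etale}
    (g : W ⟶ (ProEtS.eps X).obj V) (R : Sieve W) (hR : R ∈ Scheme.ProEt.topology X W) :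
    ∃ (n : ℕ) (Y : Fin n → X.ProEt) (y : ∀ k, Y k ⟶ W) (U : Fin n → V.left.Opens),
      (∀ k, IsAffine (Y k).left) ∧ (∀ k, IsAffineOpen (U k)) ∧ (∀ k, R (y k)) ∧
        (∀ k, Set.range (y k ≫ g).left ⊆ (U k : Set V.left)) ∧ ∀ x : W.left, ∃ k, x ∈ Set.range (y k).left := by
  let R' : Sieve W :=
    { arrows := fun T => {f : T ⟶ W |
        R f ∧ ∃ U : V.left.Opens, IsAffineOpen U ∧ Set.range (f ≫ g).left ⊆ (U : Set V.left)}
      downward_closed := fun {T T'} f hf h => ⟨R.downward_closed hf.1 h, hf.2.imp fun U hU =>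
        ⟨hU.1, by rintro _ ⟨t, rfl⟩; exact hU.2 ⟨h.left t, rfl⟩⟩⟩ }
  have hR' : R' ∈ Scheme.ProEt.topology X W := by
    refine (Scheme.ProEt.topology X).transitive hR R' fun T f hf => ?_
    let gT : T.left ⟶ V.left := (f ≫ g).left
    choose U hU htU _ using fun t : T.left =>
      (TopologicalSpace.Opens.isBasis_iff_nbhd.mp V.left.isBasis_affineOpens
        (show gT t ∈ (⊤ : V.left.Opens) from trivial))
    haveI : ∀ t, IsOpenImmersion (WContr.pieceHom T (gT ⁻¹ᵁ U t)).left := fun t =>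
      inferInstanceAs (IsOpenImmersion (gT ⁻¹ᵁ U t).ι)
    refine (Scheme.ProEt.topology X).superset_covering ?_
      (WContr.zariski_mem_topology (fun t => WContr.piece T (gT ⁻¹ᵁ U t)) (fun t => WContr.pieceHom T (gT ⁻¹ᵁ U t))
        fun t => ⟨t, (Scheme.Opens.range_ι (gT ⁻¹ᵁ U t)).ge (htU t)⟩)
    rintro T' h ⟨_, m, _, ⟨t⟩, rfl⟩
    refine ⟨R.downward_closed hf _, U t, hU t, ?_⟩
    rintro _ ⟨z, rfl⟩
    exact (Scheme.Opens.range_ι (gT ⁻¹ᵁ U t)).le ⟨m.left z, rfl⟩
  obtain ⟨n, Y, y, hY, hy, hs⟩ := exists_finite_affine_compact W R' hR'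
  choose hyR U hU hUr using hy
  exact ⟨n, Y, y, U, hY, hU, hyR, hUr, hs⟩

/-- covering sieves of presented objects are refined by a presented cover -/
theorem exists_pres_refine {W : X.ProEt} (P : Pres W) (R : Sieve W) (hR : R ∈ Scheme.ProEt.topology X W) :
    ∃ (n : ℕ) (Y : Fin n → X.ProEt) (y : ∀ k, Y k ⟶ W), (∀ k, R (y k)) ∧
      ∃ (Z : X.ProEt) (p : Z ⟶ W) (q : Z ⟶ sigmaObj Y),
        q ≫ sigmaOut Y y = p ∧ Nonempty (Pres Z) ∧ Surjective p.left := by
  haveI := P.compactSpace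
  obtain ⟨i⟩ := IsCofiltered.nonempty (C := P.I)
  obtain ⟨n, Y, y, U, hY, hU, hyR, hUr, hs⟩ := exists_finite_affine_over (P.π i) R hR
  haveI hU' : ∀ k, IsAffine (opn (P.D.obj i) (U k)).left := hU
  haveI : IsAffine (sigmaObj Y).left := inferInstanceAs (IsAffine (∐ fun k => (Y k).left))
  haveI : Etale (Sigma.desc fun k => (opn (P.D.obj i) (U k)).hom) :=
    IsZariskiLocalAtSource.sigmaDesc (P := @Etale) fun k => (opn (P.D.obj i) (U k)).prop
  let S : X.Etale := Scheme.Etale.mk (Sigma.desc fun k => (opn (P.D.obj i) (U k)).hom)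
  haveI : IsAffine S.left := inferInstanceAs (IsAffine (∐ fun k => (opn (P.D.obj i) (U k)).left))
  let m : ∀ k, Y k ⟶ (ProEtS.eps X).obj (opn (P.D.obj i) (U k)) := fun k =>
    MorphismProperty.Over.homMk (IsOpenImmersion.lift (U k).ι (y k ≫ P.π i).left
      ((hUr k).trans (Scheme.Opens.range_ι (U k)).ge)) (by
      change IsOpenImmersion.lift (U k).ι (y k ≫ P.π i).left _ ≫ (U k).ι ≫ (P.D.obj i).hom = (Y k).hom
      rw [IsOpenImmersion.lift_fac_assoc]
      exact Over.w (y k ≫ P.π i).hom)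
  let j : ∀ k, opn (P.D.obj i) (U k) ⟶ S := fun k =>
    MorphismProperty.Over.homMk (Sigma.ι (fun k => (opn (P.D.obj i) (U k)).left) k) (Sigma.ι_desc _ _)
  obtain ⟨Z, q, hZ, hq⟩ := exists_pres_cover (sigmaObj Y)
    (sigmaOut Y fun k => m k ≫ (ProEtS.eps X).map (j k))
  haveI : Surjective (sigmaOut Y y).left := ⟨fun x => by
    obtain ⟨k, z, hz⟩ := hs x
    refine ⟨(sigmaInj Y k).left z, ?_⟩
    rw [← hz, ← Scheme.Hom.comp_apply]
    exact congrArg (fun m : Y k ⟶ W => m.left z) (sigmaInj_out Y y k)⟩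
  exact ⟨n, Y, y, hyR, Z, q ≫ sigmaOut Y y, q, rfl, hZ,
    inferInstanceAs (Surjective (q.left ≫ (sigmaOut Y y).left))⟩

theorem singleton_mem_topology {Z W : X.ProEt} [CompactSpace Z.left] [QuasiSeparatedSpace W.left] (p : Z ⟶ W)
    [Surjective p.left] : Sieve.generate (Presieve.singleton p) ∈ Scheme.ProEt.topology X W := by
  rw [← Presieve.ofArrows_pUnit.{_, _, u + 1}]
  refine Precoverage.generate_mem_toGrothendieck ?_
  rw [Scheme.ProEt.precoverage, Precoverage.mem_comap_iff, Presieve.map_ofArrows]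
  let pl : Z.left ⟶ W.left := p.left
  have he : WeaklyEtale pl := by
    haveI : WeaklyEtale (pl ≫ W.hom) := by
      rw [show pl ≫ W.hom = Z.hom from Over.w p.hom]; exact Z.prop
    exact WeaklyEtale.of_comp pl W.hom
  let 𝒲 : W.left.Cover (Scheme.precoverage @WeaklyEtale) :=
    ⟨⟨PUnit.{u + 1}, fun _ => Z.left, fun _ => pl⟩,
      (Scheme.ofArrows_mem_precoverage_iff (P := @WeaklyEtale)).mpr
        ⟨fun x => ⟨⟨⟩, pl.surjective x⟩, fun _ => he⟩⟩
  haveI : Finite 𝒲.I₀ := inferInstanceAs (Finite PUnit.{u + 1})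
  haveI : ∀ i, AlgebraicGeometry.QuasiCompact (𝒲.f i) := fun _ => inferInstanceAs (QuasiCompact pl)
  haveI hqc : QuasiCompactCover 𝒲.toPreZeroHypercover := QuasiCompactCover.of_finite
  exact ⟨(Scheme.presieve₀_mem_qcPrecoverage_iff (E := 𝒲.toPreZeroHypercover)).mpr hqc, 𝒲.mem₀⟩

end Groth.Agent.EpsLan
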