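import Groth.Agent.EpsLan.Germ
import Mathlib

/-!
Pro-étale presentations: affine objects of the pro-étale site as cofiltered limits of affine étale schemes.
-/

set_option autoImplicit false
set_option backward.isDefEq.respectTransparency false
set_option backward.isDefEq.respectTransparency.types false
set_option linter.style.haveILetI false
set_option synthInstance.maxHeartbeats 200000

universe u

open CategoryTheory CategoryTheory.Limits AlgebraicGeometry Opposite

namespace Groth.Agent.EpsLan

variable {X : Scheme.{u}}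

/-- the underlying schemes of a diagram in the étale site -/
noncomputable abbrev schDia {I : Type u} [SmallCategory I] (D : I ⥤ X.Etale) : I ⥤ Scheme.{u} :=
  D ⋙ Scheme.Etale.forget X ⋙ Over.forget X

/-- the cone of underlying schemes -/
noncomputable def schCone {W : X.ProEt} {I : Type u} [SmallCategory I] (D : I ⥤ X.Etale)
    (π : ∀ i, W ⟶ (ProEtS.eps X).obj (D.obj i))
    (w : ∀ {i j : I} (f : i ⟶ j), π i ≫ (ProEtS.eps X).map (D.map f) = π j) : Cone (schDia D) where
  pt := W.left
  π :=
    { app := fun i => (π i).left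
      naturality := fun i j f => by
        change 𝟙 W.left ≫ (π j).left = (π i).left ≫ (D.map f).left
        rw [Category.id_comp]
        exact (congrArg (fun m : W ⟶ (ProEtS.eps X).obj (D.obj j) => m.left) (w f)).symm }

/-- a presentation of `W` as a limit of qcqs étale schemes with affine transition maps -/
structure Pres (W : X.ProEt) : Type (u + 1) where
  I : Type u
  [cat : SmallCategory I]
  [cof : IsCofiltered I]
  D : I ⥤ X.Etale
  cpt : ∀ i, CompactSpace (D.obj i).left
  qsp : ∀ i, QuasiSeparatedSpace (D.obj i).left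
  affT : ∀ {i j : I} (f : i ⟶ j), IsAffineHom (D.map f).left
  π : ∀ i, W ⟶ (ProEtS.eps X).obj (D.obj i)
  w : ∀ {i j : I} (f : i ⟶ j), π i ≫ (ProEtS.eps X).map (D.map f) = π j
  lim : IsLimit (schCone D π w)

attribute [instance] Pres.cat Pres.cof

variable {W : X.ProEt} (P : Pres W)

instance Pres.isAffineHom_map {i j : P.I} (f : i ⟶ j) : IsAffineHom ((schDia P.D).map f) := P.affT f

instance Pres.compactSpace_obj (i : P.I) : CompactSpace ((schDia P.D).obj i) := P.cpt i

instance Pres.quasiSeparatedSpace_obj (i : P.I) : QuasiSeparatedSpace ((schDia P.D).obj i) := P.qsp i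

theorem Pres.compactSpace (P : Pres W) : CompactSpace W.left :=
  Scheme.compactSpace_of_isLimit _ _ P.lim

theorem Pres.quasiSeparatedSpace (P : Pres W) : QuasiSeparatedSpace W.left := by
  obtain ⟨i⟩ := IsCofiltered.nonempty (C := P.I)
  haveI : IsAffineHom ((schCone P.D P.π P.w).π.app i) := isAffineHom_π_app _ _ P.lim i
  haveI : QuasiSeparatedSpace ((schDia P.D).obj i) := P.qsp i
  exact quasiSeparatedSpace_of_quasiSeparated ((schCone P.D P.π P.w).π.app i)

/-- the structure maps -/
noncomputable def Pres.str : schDia P.D ⟶ (Functor.const P.I).obj X where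
  app i := (P.D.obj i).hom
  naturality i j f := by
    change (P.D.map f).left ≫ (P.D.obj j).hom = (P.D.obj i).hom ≫ 𝟙 X
    exact (Over.w (P.D.map f).hom).trans (Category.comp_id _).symm

theorem Pres.factor {V : X.Etale} (g : W ⟶ (ProEtS.eps X).obj V) :
    ∃ (i : P.I) (h : P.D.obj i ⟶ V), P.π i ≫ (ProEtS.eps X).map h = g := by
  haveI : Etale V.hom := V.prop
  obtain ⟨i, m, hm, hm'⟩ := Scheme.exists_π_app_comp_eq_of_locallyOfFinitePresentation (schDia P.D) P.str V.hom
    (schCone P.D P.π P.w) P.lim g.left (NatTrans.ext (funext fun i => by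
      change (P.π i).left ≫ (P.D.obj i).hom = g.left ≫ V.hom
      exact (Over.w (P.π i).hom).trans (Over.w g.hom).symm))
  refine ⟨i, MorphismProperty.Over.homMk m hm', ?_⟩
  apply MorphismProperty.Over.Hom.ext
  exact hm

theorem Pres.eqz {V : X.Etale} {i : P.I} (h h' : P.D.obj i ⟶ V)
    (e : P.π i ≫ (ProEtS.eps X).map h = P.π i ≫ (ProEtS.eps X).map h') :
    ∃ (j : P.I) (f : j ⟶ i), P.D.map f ≫ h = P.D.map f ≫ h' := by
  haveI : Etale V.hom := V.prop
  obtain ⟨j, f, hf⟩ := Scheme.exists_hom_comp_eq_comp_of_locallyOfFiniteType (schDia P.D) P.str V.hom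
    (schCone P.D P.π P.w) P.lim h.left h'.left (Over.w h.hom).symm (Over.w h'.hom).symm
    (congrArg (fun m : W ⟶ (ProEtS.eps X).obj V => m.left) e)
  exact ⟨j, f, MorphismProperty.Over.Hom.ext hf⟩

theorem Pres.shrink {i : P.I} (O : (P.D.obj i).left.Opens) (hO : ∀ t : W.left, (P.π i).left t ∈ O) :
    ∃ (j : P.I) (f : j ⟶ i), ∀ s : (P.D.obj j).left, (P.D.map f).left s ∈ O := by
  obtain ⟨j, f, hf⟩ := exists_map_eq_top (schDia P.D) (schCone P.D P.π P.w) P.lim (i := i) O
    (top_unique fun t _ => hO t)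
  exact ⟨j, f, fun s => hf.ge (Set.mem_univ s)⟩

variable (F : EtCoh.Ab X)

theorem Pres.exists_sec (x : (pre F).obj (op W)) :
    ∃ (i : P.I) (a : F.obj.obj (op (P.D.obj i))), sec F (P.π i) a = x := by
  obtain ⟨V, g, a, rfl⟩ := EpsLan.exists_sec F x
  obtain ⟨i, h, rfl⟩ := P.factor g
  exact ⟨i, F.obj.map h.op a, (sec_map F h (P.π i) a).symm⟩

theorem Pres.exists_map_eq_zero {i : P.I} (a : F.obj.obj (op (P.D.obj i))) (h : sec F (P.π i) a = 0) :
    ∃ (j : P.I) (f : j ⟶ i), F.obj.map (P.D.map f).op a = 0 := by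
  obtain ⟨j, f, hf⟩ := P.shrink (zl F a) ((sec_eq_zero_iff F _ _).1 h)
  exact ⟨j, f, (map_eq_zero_iff_range F _ _).2 hf⟩

theorem sec_pres_map {i j : P.I} (f : j ⟶ i) (a : F.obj.obj (op (P.D.obj i))) :
    sec F (P.π i) a = sec F (P.π j) (F.obj.map (P.D.map f).op a) := by
  rw [← sec_map, P.w]

end Groth.Agent.EpsLan
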