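import Groth.Agent.EpsLan.Acyclic
import Groth.Agent.GrothSS.Ext
import Groth.Agent.GrothSS.SupportSS
import Mathlib

/-!
`ε⁻¹` commutes with higher direct images along quasi-compact quasi-separated morphisms.
-/

set_option autoImplicit false
set_option backward.isDefEq.respectTransparency false
set_option backward.isDefEq.respectTransparency.types false
set_option linter.style.haveILetI false
set_option synthInstance.maxHeartbeats 200000

universe u

open CategoryTheory CategoryTheory.Limits AlgebraicGeometry Opposite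

namespace Groth.Agent.EpsLan

variable {X Y : Scheme.{u}}

/-- every object is covered by presented objects -/
theorem exists_pres_covering (T : X.ProEt) :
    ∃ (ι : Type u) (Z : ι → X.ProEt) (g : ∀ i, Z i ⟶ T),
      (∀ i, Nonempty (Pres (Z i))) ∧ Sieve.ofArrows Z g ∈ Scheme.ProEt.topology X T := by
  have h : ∀ t : T.left, ∃ O : T.left.Opens, t ∈ O ∧ IsAffineOpen O ∧
      ∃ U : X.Opens, IsAffineOpen U ∧ O ≤ T.hom ⁻¹ᵁ U := fun t => by
    obtain ⟨U, hU, htU, -⟩ := TopologicalSpace.Opens.isBasis_iff_nbhd.mp X.isBasis_affineOpens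
      (show T.hom t ∈ (⊤ : X.Opens) from trivial)
    obtain ⟨O, hO, htO, hOU⟩ := TopologicalSpace.Opens.isBasis_iff_nbhd.mp T.left.isBasis_affineOpens
      (show t ∈ T.hom ⁻¹ᵁ U from htU)
    exact ⟨O, htO, hO, U, hU, hOU⟩
  choose O htO hO U hU hOU using h
  have hex : ∀ t, ∃ (Z : X.ProEt) (p : Z ⟶ WContr.piece T (O t)), Nonempty (Pres Z) ∧
      Sieve.generate (Presieve.singleton p) ∈ Scheme.ProEt.topology X _ := fun t => by
    haveI : IsAffine (WContr.piece T (O t)).left := hO t
    let V : X.Etale := Scheme.Etale.mk (U t).ι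
    haveI : IsAffine V.left := hU t
    let g : WContr.piece T (O t) ⟶ (ProEtS.eps X).obj V :=
      MorphismProperty.Over.homMk (IsOpenImmersion.lift (U t).ι ((O t).ι ≫ T.hom) (by
        rintro _ ⟨z, rfl⟩
        exact (Scheme.Opens.range_ι (U t)).ge (hOU t ((Scheme.Opens.range_ι (O t)).le ⟨z, rfl⟩)))) (IsOpenImmersion.lift_fac _ _ _)
    obtain ⟨Z, p, hZ, hp⟩ := exists_pres_cover (WContr.piece T (O t)) g
    haveI := hZ.some.compactSpace
    exact ⟨Z, p, hZ, singleton_mem_topology p⟩
  choose Z p hZ hp using hex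
  refine ⟨T.left, Z, fun t => p t ≫ WContr.pieceHom T (O t), hZ, ?_⟩
  haveI : ∀ t, IsOpenImmersion (WContr.pieceHom T (O t)).left := fun t =>
    inferInstanceAs (IsOpenImmersion (O t).ι)
  refine (Scheme.ProEt.topology X).transitive (WContr.zariski_mem_topology (fun t => WContr.piece T (O t))
    (fun t => WContr.pieceHom T (O t)) fun t => ⟨t, (Scheme.Opens.range_ι (O t)).ge (htO t)⟩) _ ?_
  rintro T' f ⟨_, m, _, ⟨t⟩, rfl⟩
  rw [Sieve.pullback_comp]
  refine (Scheme.ProEt.topology X).pullback_stable _ ((Scheme.ProEt.topology X).superset_covering ?_ (hp t))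
  rintro T'' a ⟨_, b, _, ⟨⟩, rfl⟩
  exact ⟨_, b, _, ⟨t⟩, (Category.assoc _ _ _).symm⟩

/-- a map of sheaves bijective on presented objects is invertible -/
theorem isIso_of_bijective_pres {G H : ProEtS.AbP X} (φ : G ⟶ H)
    (h : ∀ W : X.ProEt, Nonempty (Pres W) → Function.Bijective (φ.hom.app (op W))) : IsIso φ := by
  refine (Sheaf.isLocallyBijective_iff_isIso (A := AddCommGrpCat.{u + 1}) φ).1 ⟨⟨fun {T} a b hab => ?_⟩,
    ⟨fun {T} s => ?_⟩⟩
  · obtain ⟨ι, Z, g, hZ, hc⟩ := exists_pres_covering T.unop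
    refine (Scheme.ProEt.topology X).superset_covering ?_ hc
    rintro T' f ⟨_, m, _, ⟨i⟩, rfl⟩
    refine Sieve.downward_closed _ ((h (Z i) (hZ i)).1 ?_) m
    rw [NatTrans.naturality_apply, NatTrans.naturality_apply, hab]
  · obtain ⟨ι, Z, g, hZ, hc⟩ := exists_pres_covering T
    refine (Scheme.ProEt.topology X).superset_covering ?_ hc
    rintro T' f ⟨_, m, _, ⟨i⟩, rfl⟩
    exact Sieve.downward_closed _ ((h (Z i) (hZ i)).2 _) m

variable (f : X ⟶ Y)

/-- base change commutes with `ε` -/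
noncomputable def bcEps : ProEtS.eps Y ⋙ ProEtS.bcP f ≅ EtCoh.bc f ⋙ ProEtS.eps X :=
  NatIso.ofComponents (fun _ => MorphismProperty.Over.isoMk (Iso.refl _) (Category.id_comp _))
    (fun {_ _} _ => MorphismProperty.Over.Hom.ext ((Category.comp_id _).trans (Category.id_comp _).symm))

theorem bcEps_left (V : Y.Etale) : ((bcEps f).hom.app V).left = 𝟙 _ := rfl

/-- the projection of a base change -/
noncomputable abbrev bfst (W : Y.ProEt) : ((ProEtS.bcP f).obj W).left ⟶ W.left :=
  (pullback.fst W.hom f : ((ProEtS.bcP f).obj W).left ⟶ W.left)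

/-- the projection of a base change -/
noncomputable abbrev bsnd (W : Y.ProEt) : ((ProEtS.bcP f).obj W).left ⟶ X :=
  (pullback.snd W.hom f : ((ProEtS.bcP f).obj W).left ⟶ X)

/-- the projections of a base-changed presentation -/
noncomputable abbrev bcπ {W : Y.ProEt} (P : Pres W) (i : P.I) :
    (ProEtS.bcP f).obj W ⟶ (ProEtS.eps X).obj ((P.D ⋙ EtCoh.bc f).obj i) :=
  (ProEtS.bcP f).map (P.π i) ≫ (bcEps f).hom.app (P.D.obj i)

theorem bcπ_w {W : Y.ProEt} (P : Pres W) {i j : P.I} (a : i ⟶ j) :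
    bcπ f P i ≫ (ProEtS.eps X).map ((P.D ⋙ EtCoh.bc f).map a) = bcπ f P j := by
  change ((ProEtS.bcP f).map (P.π i) ≫ (bcEps f).hom.app (P.D.obj i)) ≫
    (EtCoh.bc f ⋙ ProEtS.eps X).map (P.D.map a) = _
  rw [Category.assoc, ← (bcEps f).hom.naturality, Functor.comp_map, ← Category.assoc, ← Functor.map_comp, P.w]

theorem nonempty_bcπ_isLimit {W : Y.ProEt} (P : Pres W) :
    Nonempty (IsLimit (schCone (P.D ⋙ EtCoh.bc f) (bcπ f P) (fun a => bcπ_w f P a))) := by
  let D' : P.I ⥤ X.Etale := P.D ⋙ EtCoh.bc f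
  let π := bcπ f P
  have hfst : ∀ i, (π i).left ≫ bfst f ((ProEtS.eps Y).obj (P.D.obj i)) = bfst f W ≫ (P.π i).left := fun i => by
    rw [← (Groth.Agent.ProEtCont.isPullback_bcP_map f (P.π i)).w.symm]
    change (((ProEtS.bcP f).map (P.π i)).left ≫ ((bcEps f).hom.app (P.D.obj i)).left) ≫ _ = _
    rw [bcEps_left]
    exact congrArg (· ≫ bfst f ((ProEtS.eps Y).obj (P.D.obj i))) (Category.comp_id _)
  have hsnd : ∀ i, (π i).left ≫ bsnd f ((ProEtS.eps Y).obj (P.D.obj i)) = bsnd f W := fun i => Over.w (π i).hom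
  have hcomp : ∀ {i j : P.I} (a : i ⟶ j), (D'.map a).left ≫ bfst f ((ProEtS.eps Y).obj (P.D.obj j)) =
      bfst f ((ProEtS.eps Y).obj (P.D.obj i)) ≫ (P.D.map a).left := fun a =>
    (Groth.Agent.ProEtCont.isPullback_bcP_map f ((ProEtS.eps Y).map (P.D.map a))).w.symm
  have hcsnd : ∀ {i j : P.I} (a : i ⟶ j), (D'.map a).left ≫ bsnd f ((ProEtS.eps Y).obj (P.D.obj j)) =
      bsnd f ((ProEtS.eps Y).obj (P.D.obj i)) := fun a => Over.w (D'.map a).hom
  have hex : ∀ s : Cone (schDia D'), ∃ L : s.pt ⟶ ((ProEtS.bcP f).obj W).left,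
      ∀ i, L ≫ (π i).left = s.π.app i := by
    intro s
    have hs : ∀ {i j : P.I} (a : i ⟶ j), s.π.app i ≫ (D'.map a).left = s.π.app j := fun a => s.w a
    let c : Cone (schDia P.D) :=
      { pt := s.pt
        π :=
          { app := fun i => s.π.app i ≫ bfst f ((ProEtS.eps Y).obj (P.D.obj i))
            naturality := fun i j a => by
              change 𝟙 _ ≫ s.π.app j ≫ _ = (s.π.app i ≫ _) ≫ (P.D.map a).left
              rw [Category.id_comp, Category.assoc, ← hcomp, ← Category.assoc, hs] } }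
    obtain ⟨i₀⟩ := IsCofiltered.nonempty (C := P.I)
    have hconst : ∀ i, s.π.app i ≫ bsnd f ((ProEtS.eps Y).obj (P.D.obj i)) =
        s.π.app i₀ ≫ bsnd f ((ProEtS.eps Y).obj (P.D.obj i₀)) := fun i => by
      have key : ∀ {i j : P.I} (a : i ⟶ j), s.π.app j ≫ bsnd f ((ProEtS.eps Y).obj (P.D.obj j)) =
          s.π.app i ≫ bsnd f ((ProEtS.eps Y).obj (P.D.obj i)) := fun a => by
        rw [← hs a, Category.assoc, hcsnd]
      exact (key (IsCofiltered.minToLeft i i₀)).trans (key (IsCofiltered.minToRight i i₀)).symm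
    have hl : ∀ i, P.lim.lift c ≫ (P.π i).left = s.π.app i ≫ bfst f ((ProEtS.eps Y).obj (P.D.obj i)) :=
      fun i => P.lim.fac c i
    refine ⟨pullback.lift (P.lim.lift c) (s.π.app i₀ ≫ bsnd f ((ProEtS.eps Y).obj (P.D.obj i₀))) ?_, fun i => ?_⟩
    · rw [show W.hom = (P.π i₀).left ≫ (P.D.obj i₀).hom from (Over.w (P.π i₀).hom).symm, ← Category.assoc, hl,
        Category.assoc, Category.assoc]
      exact congrArg (s.π.app i₀ ≫ ·) pullback.condition
    · refine pullback.hom_ext ?_ ?_
      · refine (Category.assoc _ _ _).trans ((congrArg (_ ≫ ·) (hfst i)).trans ?_)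
        rw [← Category.assoc, pullback.lift_fst, hl]
        rfl
      · refine (Category.assoc _ _ _).trans ((congrArg (_ ≫ ·) (hsnd i)).trans ?_)
        rw [pullback.lift_snd, ← hconst i]
        rfl
  choose L hL using hex
  refine ⟨{ lift := L, fac := hL, uniq := fun s m hm => ?_ }⟩
  have he : ∀ i, m ≫ (π i).left = L s ≫ (π i).left := fun i => (hm i).trans (hL s i).symm
  obtain ⟨i₀⟩ := IsCofiltered.nonempty (C := P.I)
  refine pullback.hom_ext (P.lim.hom_ext fun i => ?_) ?_
  · change (m ≫ bfst f W) ≫ (P.π i).left = (L s ≫ bfst f W) ≫ (P.π i).left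
    rw [Category.assoc, Category.assoc, ← hfst, ← Category.assoc, ← Category.assoc, he]
  · change m ≫ bsnd f W = L s ≫ bsnd f W
    rw [← hsnd i₀, ← Category.assoc, ← Category.assoc, he]

/-- base change preserves presentations -/
noncomputable def bcPres [QuasiCompact f] [QuasiSeparated f] {W : Y.ProEt} (P : Pres W) :
    Pres ((ProEtS.bcP f).obj W) where
  I := P.I
  D := P.D ⋙ EtCoh.bc f
  cpt i :=
    haveI : CompactSpace ((𝟭 Scheme).obj (P.D.obj i).left) := P.cpt i
    QuasiCompact.compactSpace_of_compactSpace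
      (pullback.fst (P.D.obj i).hom f : ((EtCoh.bc f).obj (P.D.obj i)).left ⟶ (P.D.obj i).left)
  qsp i :=
    haveI : QuasiSeparatedSpace ((𝟭 Scheme).obj (P.D.obj i).left) := P.qsp i
    quasiSeparatedSpace_of_quasiSeparated
      (pullback.fst (P.D.obj i).hom f : ((EtCoh.bc f).obj (P.D.obj i)).left ⟶ (P.D.obj i).left)
  affT a :=
    MorphismProperty.of_isPullback (P := @IsAffineHom)
      (Groth.Agent.ProEtCont.isPullback_bcP_map f ((ProEtS.eps Y).map (P.D.map a))) (P.affT a)
  π := bcπ f P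
  w := bcπ_w f P
  lim := (nonempty_bcπ_isLimit f P).some

variable [ProEtS.PCont f]

theorem isZero_RpushP_of_acyclic [QuasiCompact f] [QuasiSeparated f] (q : ℕ) : ∀ (G : ProEtS.AbP X),
    CechAcyclic G → IsZero ((ProEtS.RpushP f (q + 1)).obj G) := by
  haveI := (ProEtS.pullPushAdjP f).rightAdjoint_preservesLimits
  haveI : PreservesFiniteLimits (ProEtS.pushP f) := PreservesLimits.preservesFiniteLimits _
  induction q with
  | zero =>
    intro G hG
    refine isZero_succ (ProEtS.pushP f) (SiteCoh.embedSeq_shortExact G) 0 ?_ ?_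
    · exact Functor.isZero_rightDerived_obj_injective_succ _ _ _
    · refine epi_rightDerived_zero _ _ ?_
      refine (Sheaf.isLocallySurjective_iff_epi' AddCommGrpCat.{u + 1} _).1 ⟨fun {T} s => ?_⟩
      obtain ⟨ι, Z, g, hZ, hc⟩ := exists_pres_covering T
      refine (Scheme.ProEt.topology Y).superset_covering ?_ hc
      rintro T' a ⟨_, m, _, ⟨i⟩, rfl⟩
      exact Sieve.downward_closed _
        (surjective_sections (SiteCoh.embedSeq_shortExact G) hG (bcPres f (hZ i).some) _) m
  | succ q ih =>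
    intro G hG
    refine isZero_succ (ProEtS.pushP f) (SiteCoh.embedSeq_shortExact G) (q + 1) ?_ ?_
    · exact Functor.isZero_rightDerived_obj_injective_succ _ _ _
    · exact ⟨fun a b _ => (ih _ (cechAcyclic_quotient (SiteCoh.embedSeq_shortExact G) hG
        (cechAcyclic_injective _))).eq_of_src a b⟩

/-- the constructed pullback -/
noncomputable abbrev pullC (X : Scheme.{u}) : EtCoh.Ab X ⥤ ProEtS.AbP X :=
  Functor.sheafPullbackConstruction.sheafPullback (ProEtS.eps X) AddCommGrpCat.{u + 1} X.smallEtaleTopology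
    (Scheme.ProEt.topology X)

variable [ProEtS.EpsCont X] [ProEtS.EpsCont Y]

/-- the constructed adjunction -/
noncomputable abbrev adjC (X : Scheme.{u}) [ProEtS.EpsCont X] : pullC X ⊣ ProEtS.epsPush X :=
  Functor.sheafPullbackConstruction.sheafAdjunctionContinuous (ProEtS.eps X) AddCommGrpCat.{u + 1}
    X.smallEtaleTopology (Scheme.ProEt.topology X)

/-- direct images commute with `ε_*` -/
noncomputable def pushEps : ProEtS.epsPush X ⋙ EtCoh.push f ≅ ProEtS.pushP f ⋙ ProEtS.epsPush Y :=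
  NatIso.ofComponents (fun G => ObjectProperty.isoMk _ (Functor.isoWhiskerRight (NatIso.op (bcEps f)) G.obj))
    (fun {_ _} a => Sheaf.hom_ext (NatTrans.ext (funext fun V =>
      (a.hom.naturality ((NatIso.op (bcEps f)).hom.app V)).symm)))

/-- the transpose of the comparison -/
noncomputable def pushTranspose : EtCoh.push f ⟶ (pullC X ⋙ ProEtS.pushP f) ⋙ ProEtS.epsPush Y :=
  Functor.whiskerRight (adjC X).unit (EtCoh.push f) ≫ Functor.whiskerLeft (pullC X) (pushEps f).hom

/-- the comparison `ε⁻¹ f_* → f_* ε⁻¹` -/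
noncomputable def cmpPush : EtCoh.push f ⋙ pullC Y ⟶ pullC X ⋙ ProEtS.pushP f where
  app F := ((adjC Y).homEquiv _ _).symm ((pushTranspose f).app F)
  naturality F G a := by
    change (pullC Y).map ((EtCoh.push f).map a) ≫ ((adjC Y).homEquiv _ _).symm ((pushTranspose f).app G) =
      ((adjC Y).homEquiv _ _).symm ((pushTranspose f).app F) ≫ (ProEtS.pushP f).map ((pullC X).map a)
    rw [← Adjunction.homEquiv_naturality_left_symm, ← Adjunction.homEquiv_naturality_right_symm]
    exact congrArg _ ((pushTranspose f).naturality a)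

theorem adjC_unit_hom (F : EtCoh.Ab X) : ((adjC X).unit.app F).hom = unitMap F :=
  restrict_unit_hom (J := X.smallEtaleTopology) (K := Scheme.ProEt.topology X)
    ((ProEtS.eps X).op.lanAdjunction AddCommGrpCat.{u + 1}) F (unit F) (lan_unit_app F)

theorem cmpPush_sec (F : EtCoh.Ab X) {W : Y.ProEt} {V : Y.Etale} (g : W ⟶ (ProEtS.eps Y).obj V)
    (a : ((EtCoh.push f).obj F).obj.obj (op V)) :
    ((cmpPush f).app F).hom.app (op W) ((η ((EtCoh.push f).obj F)).app (op W) (sec ((EtCoh.push f).obj F) g a)) =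
      (η F).app _ (sec F ((ProEtS.bcP f).map g ≫ (bcEps f).hom.app V) a) := by
  have h := ((adjC Y).homEquiv ((EtCoh.push f).obj F) ((ProEtS.pushP f).obj ((pullC X).obj F))).apply_symm_apply
    ((pushTranspose f).app F)
  rw [Adjunction.homEquiv_unit] at h
  have h1 := ConcreteCategory.congr_hom (congrArg (fun m => NatTrans.app (InducedCategory.Hom.hom m) (op V)) h) a
  have e1 : ((adjC Y).unit.app ((EtCoh.push f).obj F)).hom.app (op V) a =
      (η ((EtCoh.push f).obj F)).app _ ((unit ((EtCoh.push f).obj F)).app (op V) a) :=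
    ConcreteCategory.congr_hom (congrArg (fun m => NatTrans.app m (op V)) (adjC_unit_hom _)) a
  have e2 : ((pushTranspose f).app F).hom.app (op V) a =
      (GP F).obj.map ((bcEps f).hom.app V).op ((η F).app _ ((unit F).app (op ((EtCoh.bc f).obj V)) a)) :=
    congrArg ((GP F).obj.map ((bcEps f).hom.app V).op)
      (ConcreteCategory.congr_hom (congrArg (fun m => NatTrans.app m (op ((EtCoh.bc f).obj V))) (adjC_unit_hom F)) a)
  have h2 : ((cmpPush f).app F).hom.app _ ((η ((EtCoh.push f).obj F)).app _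
      ((unit ((EtCoh.push f).obj F)).app (op V) a)) =
      (GP F).obj.map ((bcEps f).hom.app V).op ((η F).app _ ((unit F).app (op ((EtCoh.bc f).obj V)) a)) := by
    refine Eq.trans ?_ (h1.trans e2)
    exact congrArg (((cmpPush f).app F).hom.app _) e1.symm
  change ((cmpPush f).app F).hom.app _ ((η ((EtCoh.push f).obj F)).app _
    ((pre ((EtCoh.push f).obj F)).map g.op ((unit ((EtCoh.push f).obj F)).app (op V) a))) = _
  rw [NatTrans.naturality_apply]
  refine (NatTrans.naturality_apply ((cmpPush f).app F).hom g.op _).trans ((congrArg _ h2).trans ?_)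
  change (GP F).obj.map ((ProEtS.bcP f).map g).op ((GP F).obj.map ((bcEps f).hom.app V).op _) = _
  refine ((congrArg _ (NatTrans.naturality_apply (η F) ((bcEps f).hom.app V).op _).symm).trans
    (NatTrans.naturality_apply (η F) ((ProEtS.bcP f).map g).op _).symm).trans (congrArg ((η F).app _) ?_)
  exact sec_comp F ((ProEtS.bcP f).map g) ((bcEps f).hom.app V) a

theorem isIso_cmpPush [QuasiCompact f] [QuasiSeparated f] : IsIso (cmpPush f) := by
  suffices h : ∀ F, IsIso ((cmpPush f).app F) from NatIso.isIso_of_isIso_app _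
  intro F
  refine isIso_of_bijective_pres _ fun W hW => ?_
  obtain ⟨P⟩ := hW
  let Q := bcPres f P
  constructor
  · rw [injective_iff_map_eq_zero]
    intro x hx
    obtain ⟨y, rfl⟩ := (bijective_η P ((EtCoh.push f).obj F)).2 x
    obtain ⟨i, a, rfl⟩ := P.exists_sec ((EtCoh.push f).obj F) y
    have hx' := (cmpPush_sec f F (P.π i) a).symm.trans hx
    have hzero := (bijective_η Q F).1 (hx'.trans (map_zero _).symm)
    obtain ⟨j, t, ht⟩ := Q.exists_map_eq_zero F a hzero
    rw [sec_pres_map P _ t,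
      show ((EtCoh.push f).obj F).obj.map (P.D.map t).op a = 0 from ht, map_zero, map_zero]
  · intro x
    obtain ⟨y, rfl⟩ := (bijective_η Q F).2 x
    obtain ⟨i, a, rfl⟩ := Q.exists_sec F y
    exact ⟨_, cmpPush_sec f F (P.π i) a⟩

/-- `ε⁻¹ f_* ≅ f_* ε⁻¹` -/
noncomputable def pushPullIso [QuasiCompact f] [QuasiSeparated f] :
    EtCoh.push f ⋙ ProEtS.epsPull Y ≅ ProEtS.epsPull X ⋙ ProEtS.pushP f :=
  haveI := isIso_cmpPush f
  Functor.isoWhiskerLeft (EtCoh.push f) (Functor.sheafPullbackConstruction.sheafPullbackIso (ProEtS.eps Y)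
      AddCommGrpCat.{u + 1} Y.smallEtaleTopology (Scheme.ProEt.topology Y)) ≪≫ asIso (cmpPush f) ≪≫
    Functor.isoWhiskerRight (Functor.sheafPullbackConstruction.sheafPullbackIso (ProEtS.eps X)
      AddCommGrpCat.{u + 1} X.smallEtaleTopology (Scheme.ProEt.topology X)).symm (ProEtS.pushP f)

/-- higher direct images commute with `ε⁻¹` -/
theorem nonempty_RpushP_iso [QuasiCompact f] [QuasiSeparated f] (F : EtCoh.Ab X) (q : ℕ) :
    Nonempty ((ProEtS.RpushP f q).obj ((ProEtS.epsPull X).obj F) ≅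
      (ProEtS.epsPull Y).obj ((EtCoh.Rpush f q).obj F)) := by
  haveI := (ProEtS.pullPushAdjP f).rightAdjoint_preservesLimits
  haveI : PreservesFiniteLimits (ProEtS.pushP f) := PreservesLimits.preservesFiniteLimits _
  haveI : (ProEtS.epsPull X).Additive := (ProEtS.epsAdj X).left_adjoint_additive
  haveI : (ProEtS.epsPull Y).Additive := (ProEtS.epsAdj Y).left_adjoint_additive
  obtain ⟨e1⟩ := GrothSS.nonempty_rightDerived_comp_acyclic (ProEtS.epsPull X) (ProEtS.pushP f)
    (fun I hI q hq => by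
      haveI := hI
      obtain ⟨r, rfl⟩ : ∃ r, q = r + 1 := ⟨q - 1, by omega⟩
      exact isZero_RpushP_of_acyclic f r _ (cechAcyclic_epsPull I)) q F
  obtain ⟨e2⟩ := GrothSS.nonempty_rightDerived_comp_exact (EtCoh.push f) (ProEtS.epsPull Y) q F
  exact ⟨e1.symm ≪≫ (GrothSS.rightDerivedMapIso (pushPullIso f).symm q).app F ≪≫ e2⟩

end Groth.Agent.EpsLan
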