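import Groth.Agent.EpsLan.Pres
import Groth.Agent.EpsLan.Pwr
import Mathlib

/-!
A morphism of presented objects is a cofiltered limit of morphisms of their stages; presentations of fibre powers.
-/

set_option autoImplicit false
set_option backward.isDefEq.respectTransparency false
set_option backward.isDefEq.respectTransparency.types false
set_option linter.style.haveILetI false
set_option synthInstance.maxHeartbeats 200000

universe u

open CategoryTheory CategoryTheory.Limits AlgebraicGeometry Opposite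

namespace Groth.Agent.EpsLan

variable {X : Scheme.{u}} {Z W : X.ProEt}

/-- a stage of a morphism of presented objects -/
structure Stg (P : Pres W) (Q : Pres Z) (p : Z ⟶ W) : Type u where
  i : P.I
  a : Q.I
  f : Q.D.obj a ⟶ P.D.obj i
  comm : Q.π a ≫ (ProEtS.eps X).map f = p ≫ P.π i

variable {P : Pres W} {Q : Pres Z} {p : Z ⟶ W}

namespace Stg

/-- maps of stages -/
@[ext]
structure Hom (k k' : Stg P Q p) : Type u where
  φ : k.i ⟶ k'.i
  ψ : k.a ⟶ k'.a
  w : k.f ≫ P.D.map φ = Q.D.map ψ ≫ k'.f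

instance : SmallCategory (Stg P Q p) where
  Hom := Hom
  id k := ⟨𝟙 _, 𝟙 _, by simp⟩
  comp {k k' k''} h h' := ⟨h.φ ≫ h'.φ, h.ψ ≫ h'.ψ, by
    rw [Functor.map_comp, Functor.map_comp, ← Category.assoc, h.w, Category.assoc, h'.w, Category.assoc]⟩
  id_comp h := Hom.ext (Category.id_comp _) (Category.id_comp _)
  comp_id h := Hom.ext (Category.comp_id _) (Category.comp_id _)
  assoc h h' h'' := Hom.ext (Category.assoc _ _ _) (Category.assoc _ _ _)

theorem hom_ext {k k' : Stg P Q p} (h h' : k ⟶ k') (e1 : h.φ = h'.φ) (e2 : h.ψ = h'.ψ) : h = h' := Hom.ext e1 e2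

theorem exists_below (i : P.I) (a : Q.I) :
    ∃ k : Stg P Q p, Nonempty (k.i ⟶ i) ∧ Nonempty (k.a ⟶ a) := by
  obtain ⟨a₀, f₀, hf₀⟩ := Q.factor (p ≫ P.π i)
  refine ⟨⟨i, IsCofiltered.min a₀ a, Q.D.map (IsCofiltered.minToLeft a₀ a) ≫ f₀, ?_⟩, ⟨𝟙 i⟩,
    ⟨IsCofiltered.minToRight a₀ a⟩⟩
  rw [Functor.map_comp, ← Category.assoc, Q.w, hf₀]

theorem exists_refine (k k' : Stg P Q p) (e1 : k.i ⟶ k'.i) (e2 : k.a ⟶ k'.a) :
    ∃ (l : Stg P Q p) (t : l ⟶ k) (t' : l ⟶ k'), t'.φ = t.φ ≫ e1 ∧ t'.ψ = t.ψ ≫ e2 := by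
  obtain ⟨a, g, hg⟩ := Q.eqz (k.f ≫ P.D.map e1) (Q.D.map e2 ≫ k'.f) (by
    rw [Functor.map_comp, Functor.map_comp, ← Category.assoc, k.comm, ← Category.assoc, Q.w, k'.comm,
      Category.assoc, P.w])
  refine ⟨⟨k.i, a, Q.D.map g ≫ k.f, ?_⟩, ⟨𝟙 _, g, ?_⟩, ⟨e1, g ≫ e2, ?_⟩, (Category.id_comp e1).symm, rfl⟩
  · rw [Functor.map_comp, ← Category.assoc, Q.w, k.comm]
  · simp
  · dsimp only
    rw [Category.assoc, hg, Functor.map_comp, Category.assoc]

instance : IsCofiltered (Stg P Q p) where
  nonempty := by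
    obtain ⟨i⟩ := IsCofiltered.nonempty (C := P.I)
    obtain ⟨a⟩ := IsCofiltered.nonempty (C := Q.I)
    exact ⟨(exists_below i a).choose⟩
  cone_objs k k' := by
    obtain ⟨l, ⟨e1⟩, ⟨e2⟩⟩ := exists_below (p := p) (IsCofiltered.min k.i k'.i) (IsCofiltered.min k.a k'.a)
    obtain ⟨l₁, t, t₁, -, -⟩ := exists_refine l k (e1 ≫ IsCofiltered.minToLeft _ _) (e2 ≫ IsCofiltered.minToLeft _ _)
    obtain ⟨l₂, t', t₂, -, -⟩ :=
      exists_refine l₁ k' (t.φ ≫ e1 ≫ IsCofiltered.minToRight _ _) (t.ψ ≫ e2 ≫ IsCofiltered.minToRight _ _)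
    exact ⟨l₂, t' ≫ t₁, t₂, trivial⟩
  cone_maps k k' h h' := by
    obtain ⟨l, ⟨e1⟩, ⟨e2⟩⟩ := exists_below (p := p) (IsCofiltered.eq h.φ h'.φ) (IsCofiltered.eq h.ψ h'.ψ)
    obtain ⟨l₁, t, t', h1, h2⟩ := exists_refine l k (e1 ≫ IsCofiltered.eqHom _ _) (e2 ≫ IsCofiltered.eqHom _ _)
    refine ⟨l₁, t', hom_ext _ _ ?_ ?_⟩
    · change t'.φ ≫ h.φ = t'.φ ≫ h'.φ
      rw [h1]
      simp only [Category.assoc]
      exact congrArg (fun m => t.φ ≫ e1 ≫ m) (IsCofiltered.eq_condition h.φ h'.φ)
    · change t'.ψ ≫ h.ψ = t'.ψ ≫ h'.ψ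
      rw [h2]
      simp only [Category.assoc]
      exact congrArg (fun m => t.ψ ≫ e2 ≫ m) (IsCofiltered.eq_condition h.ψ h'.ψ)

variable (P Q p)

/-- the base index -/
@[simps]
def fstI : Stg P Q p ⥤ P.I where
  obj k := k.i
  map h := h.φ

/-- the source index -/
@[simps]
def sndI : Stg P Q p ⥤ Q.I where
  obj k := k.a
  map h := h.ψ

instance initial_fstI : (fstI P Q p).Initial := by
  refine Functor.initial_of_exists_of_isCofiltered _ (fun i => ?_) (fun {i k} s s' => ?_)
  · obtain ⟨a⟩ := IsCofiltered.nonempty (C := Q.I)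
    obtain ⟨l, e1, -⟩ := exists_below (p := p) i a
    exact ⟨l, e1⟩
  · obtain ⟨l, ⟨e1⟩, ⟨e2⟩⟩ := exists_below (p := p) (IsCofiltered.eq s s') k.a
    obtain ⟨l₁, t, t', h1, -⟩ := exists_refine l k (e1 ≫ IsCofiltered.eqHom _ _) e2
    refine ⟨l₁, t', ?_⟩
    change t'.φ ≫ s = t'.φ ≫ s'
    rw [h1]
    simp only [Category.assoc, IsCofiltered.eq_condition]

instance initial_sndI : (sndI P Q p).Initial := by
  refine Functor.initial_of_exists_of_isCofiltered _ (fun a => ?_) (fun {a k} s s' => ?_)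
  · obtain ⟨i⟩ := IsCofiltered.nonempty (C := P.I)
    obtain ⟨l, -, e2⟩ := exists_below (p := p) i a
    exact ⟨l, e2⟩
  · obtain ⟨l, ⟨e1⟩, ⟨e2⟩⟩ := exists_below (p := p) k.i (IsCofiltered.eq s s')
    obtain ⟨l₁, t, t', -, h2⟩ := exists_refine l k e1 (e2 ≫ IsCofiltered.eqHom _ _)
    refine ⟨l₁, t', ?_⟩
    change t'.ψ ≫ s = t'.ψ ≫ s'
    rw [h2]
    simp only [Category.assoc, IsCofiltered.eq_condition]

end Stg

/-! ### Fibre powers -/

/-- the functor to schemes -/
noncomputable abbrev proSch (X : Scheme.{u}) : X.ProEt ⥤ Scheme.{u} := Scheme.ProEt.forget X ⋙ Over.forget X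

/-- the functor to schemes -/
noncomputable abbrev etSch (X : Scheme.{u}) : X.Etale ⥤ Scheme.{u} := Scheme.Etale.forget X ⋙ Over.forget X

theorem preserves_post {C : Type (u + 1)} [Category.{u} C] [HasFiniteLimits C] (Φ : C ⥤ Over X)
    [PreservesFiniteLimits Φ] (W : C) (n : ℕ) :
    PreservesLimitsOfShape (Discrete (Fin n)) (Over.post (X := W) (Φ ⋙ Over.forget X)) := by
  haveI : (Over.iteratedSliceForward (Φ.obj W)).IsEquivalence :=
    (Over.iteratedSliceEquiv (Φ.obj W)).isEquivalence_functor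
  exact preservesLimitsOfShape_of_natIso
    (F := Over.post (X := W) Φ ⋙ Over.iteratedSliceForward (Φ.obj W))
    (NatIso.ofComponents (fun _ => Iso.refl _) fun {_ _} _ => (Category.comp_id _).trans (Category.id_comp _).symm)

instance preserves_post_proSch (W : X.ProEt) (n : ℕ) :
    PreservesLimitsOfShape (Discrete (Fin n)) (Over.post (X := W) (proSch X)) :=
  preserves_post (Scheme.ProEt.forget X) W n

instance preserves_post_etSch (W : X.Etale) (n : ℕ) :
    PreservesLimitsOfShape (Discrete (Fin n)) (Over.post (X := W) (etSch X)) :=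
  preserves_post (Scheme.Etale.forget X) W n

instance preserves_post_eps (W : X.Etale) (n : ℕ) :
    PreservesLimitsOfShape (Discrete (Fin n)) (Over.post (X := W) (ProEtS.eps X)) :=
  haveI := Groth.Agent.ProEtCont.preservesFiniteLimits_eps X
  inferInstance

/-- the next fibre power is a pullback -/
theorem isPullback_pwr {A B : X.Etale} (f : A ⟶ B) (n : ℕ) :
    IsPullback (pdrop f n (Fin.last (n + 1))).left (pproj f (n + 1) (Fin.last (n + 1))).left
      ((pproj f n 0).left ≫ f.left) f.left := by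
  let b : (pwr f n).left ⟶ B.left := (pproj f n 0).left ≫ f.left
  let m : Fin (n + 2) → (pullback b f.left ⟶ A.left) :=
    Fin.lastCases (pullback.snd b f.left) fun i => pullback.fst b f.left ≫ (pproj f n i).left
  have hm : ∀ i, m i ≫ f.left = pullback.snd b f.left ≫ f.left := fun i => by
    induction i using Fin.lastCases with
    | last => simp [m]
    | cast i =>
      simp only [m, Fin.lastCases_castSucc, Category.assoc]
      refine Eq.trans (congrArg (pullback.fst b f.left ≫ ·) ?_) pullback.condition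
      exact congrArg (fun m : pwr f n ⟶ B => m.left) (pproj_comm f n i 0)
  obtain ⟨a, ha⟩ := exists_map_pwr_lift (etSch X) f (n + 1) m fun i => (hm i).trans (hm 0).symm
  have w : (pdrop f n (Fin.last (n + 1))).left ≫ b = (pproj f (n + 1) (Fin.last (n + 1))).left ≫ f.left :=
    congrArg (fun m : pwr f (n + 1) ⟶ B => m.left) (by
      change pdrop f n (Fin.last (n + 1)) ≫ pproj f n 0 ≫ f = pproj f (n + 1) (Fin.last (n + 1)) ≫ f
      rw [← Category.assoc, pdrop_proj]
      exact pproj_comm f _ _ _)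
  let c : (pwr f (n + 1)).left ⟶ pullback b f.left :=
    pullback.lift (pdrop f n (Fin.last (n + 1))).left (pproj f (n + 1) (Fin.last (n + 1))).left w
  have hca : c ≫ a = 𝟙 _ := map_pwr_ext (etSch X) f (n + 1) _ _ fun i => by
    rw [Category.assoc, Category.id_comp, ha]
    induction i using Fin.lastCases with
    | last => simp only [m, Fin.lastCases_last]; exact pullback.lift_snd _ _ _
    | cast i =>
      simp only [m, Fin.lastCases_castSucc]
      rw [← Category.assoc, pullback.lift_fst]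
      exact congrArg (fun m : pwr f (n + 1) ⟶ A => m.left)
        ((pdrop_proj f n (Fin.last (n + 1)) i).trans (by rw [Fin.succAbove_last]))
  have hac : a ≫ c = 𝟙 _ := by
    refine pullback.hom_ext ?_ ?_
    · rw [Category.assoc, pullback.lift_fst, Category.id_comp]
      refine map_pwr_ext (etSch X) f n _ _ fun i => ?_
      rw [Category.assoc]
      refine (congrArg (a ≫ ·) (congrArg (fun m : pwr f (n + 1) ⟶ A => m.left)
        ((pdrop_proj f n (Fin.last (n + 1)) i).trans (by rw [Fin.succAbove_last])))).trans ?_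
      refine (ha i.castSucc).trans ?_
      simp only [m, Fin.lastCases_castSucc]
      rfl
    · rw [Category.assoc, pullback.lift_snd, Category.id_comp]
      exact (ha (Fin.last (n + 1))).trans (by simp [m])
  exact IsPullback.of_iso_pullback ⟨w⟩ ⟨c, a, hca, hac⟩ (pullback.lift_fst _ _ _) (pullback.lift_snd _ _ _)

theorem isIso_pone_left {A B : X.Etale} (f : A ⟶ B) : IsIso (pone f).left :=
  ⟨(pproj f 0 0).left, congrArg (fun m : A ⟶ A => m.left) (pone_proj f),
    congrArg (fun m : pwr f 0 ⟶ pwr f 0 => m.left) (proj_pone f)⟩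

/-- fibre powers of qcqs schemes over a quasi-separated one are qcqs -/
theorem qcqs_pwr {A B : X.Etale} [hA : CompactSpace A.left] [hA' : QuasiSeparatedSpace A.left]
    [hB : QuasiSeparatedSpace B.left] (f : A ⟶ B) (n : ℕ) :
    CompactSpace (pwr f n).left ∧ QuasiSeparatedSpace (pwr f n).left := by
  induction n with
  | zero =>
    haveI := isIso_pone_left f
    haveI : QuasiCompact (inv (pone f).left) := inferInstance
    exact ⟨QuasiCompact.compactSpace_of_compactSpace (inv (pone f).left),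
      quasiSeparatedSpace_of_quasiSeparated (inv (pone f).left)⟩
  | succ n ih =>
    haveI := ih.1
    haveI := ih.2
    haveI : QuasiCompact f.left := inferInstance
    haveI : QuasiSeparated f.left := inferInstance
    haveI : QuasiCompact (pdrop f n (Fin.last (n + 1))).left :=
      MorphismProperty.of_isPullback (P := @QuasiCompact) (isPullback_pwr f n).flip inferInstance
    haveI : QuasiSeparated (pdrop f n (Fin.last (n + 1))).left :=
      MorphismProperty.of_isPullback (P := @QuasiSeparated) (isPullback_pwr f n).flip inferInstance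
    exact ⟨QuasiCompact.compactSpace_of_compactSpace (pdrop f n (Fin.last (n + 1))).left,
      quasiSeparatedSpace_of_quasiSeparated (pdrop f n (Fin.last (n + 1))).left⟩

theorem isAffineHom_pullback_map {A₁ A₂ B A₁' A₂' B' : Scheme.{u}} (f : A₁ ⟶ B) (g : A₂ ⟶ B) (f' : A₁' ⟶ B')
    (g' : A₂' ⟶ B') (a : A₁ ⟶ A₁') (c : A₂ ⟶ A₂') (b : B ⟶ B') [IsAffineHom a] [IsAffineHom c]
    [IsSeparated b] (e₁ : f ≫ b = a ≫ f') (e₂ : g ≫ b = c ≫ g') :
    IsAffineHom (pullback.map f g f' g' a c b e₁ e₂) := by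
  haveI : IsAffineHom (pullback.map (f ≫ b) (g ≫ b) f' g' a c (𝟙 B') ((Category.comp_id _).trans e₁)
      ((Category.comp_id _).trans e₂)) :=
    MorphismProperty.pullbackMap (P := @IsAffineHom) ‹_› ‹_› e₁ e₂
  have : pullback.map f g f' g' a c b e₁ e₂ = pullback.mapDesc f g b ≫
      pullback.map (f ≫ b) (g ≫ b) f' g' a c (𝟙 B') ((Category.comp_id _).trans e₁)
        ((Category.comp_id _).trans e₂) := by
    ext <;> simp
  rw [this]
  infer_instance

/-- maps of fibre powers are affine when the components are -/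
theorem isAffineHom_pmap {A B A' B' : X.Etale} {f : A ⟶ B} {f' : A' ⟶ B'} (a : A ⟶ A') (b : B ⟶ B')
    (h : a ≫ f' = f ≫ b) [ha : IsAffineHom a.left] [hb : IsAffineHom b.left] (n : ℕ) :
    IsAffineHom (pmap a b h n).left := by
  induction n with
  | zero =>
    haveI := isIso_pone_left f
    haveI := isIso_pone_left f'
    haveI : IsIso (pproj f 0 0).left := by
      rw [show (pproj f 0 0).left = inv (pone f).left from
        (IsIso.inv_eq_of_hom_inv_id (congrArg (fun m : A ⟶ A => m.left) (pone_proj f))).symm]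
      infer_instance
    have e : (pmap a b h 0).left = (pproj f 0 0).left ≫ a.left ≫ (pone f').left := by
      refine (congrArg (fun m : pwr f 0 ⟶ pwr f' 0 => m.left)
        (show pmap a b h 0 = pproj f 0 0 ≫ a ≫ pone f' from ?_))
      refine pwr_hom_ext _ _ fun i => ?_
      rw [Fin.fin_one_eq_zero i, pmap_proj, Category.assoc, Category.assoc, pone_proj, Category.comp_id]
    rw [e]
    infer_instance
  | succ n ih =>
    have hw : ((pproj f n 0).left ≫ f.left) ≫ b.left = (pmap a b h n).left ≫ (pproj f' n 0).left ≫ f'.left :=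
      congrArg (fun m : pwr f n ⟶ B' => m.left) (show (pproj f n 0 ≫ f) ≫ b = pmap a b h n ≫ pproj f' n 0 ≫ f' by
        rw [← Category.assoc (pmap a b h n), pmap_proj, Category.assoc, Category.assoc, h])
    have hw' : f.left ≫ b.left = a.left ≫ f'.left := congrArg (fun m : A ⟶ B' => m.left) h.symm
    have e : (pmap a b h (n + 1)).left = (isPullback_pwr f n).isoPullback.hom ≫
        pullback.map _ _ _ _ (pmap a b h n).left a.left b.left hw hw' ≫ (isPullback_pwr f' n).isoPullback.inv := by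
      rw [← Category.assoc, Iso.eq_comp_inv]
      refine pullback.hom_ext ?_ ?_
      · rw [Category.assoc, IsPullback.isoPullback_hom_fst, Category.assoc, pullback.map, pullback.lift_fst,
          IsPullback.isoPullback_hom_fst_assoc]
        exact congrArg (fun m : pwr f (n + 1) ⟶ pwr f' n => m.left) (pdrop_pmap a b h n _).symm
      · rw [Category.assoc, IsPullback.isoPullback_hom_snd, Category.assoc, pullback.map, pullback.lift_snd,
          IsPullback.isoPullback_hom_snd_assoc]
        exact congrArg (fun m : pwr f (n + 1) ⟶ A' => m.left) (pmap_proj a b h (n + 1) _)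
    rw [e]
    haveI := isAffineHom_pullback_map ((pproj f n 0).left ≫ f.left) f.left ((pproj f' n 0).left ≫ f'.left) f'.left
      (pmap a b h n).left a.left b.left hw hw'
    infer_instance

variable (P : Pres W) (Q : Pres Z) (p : Z ⟶ W)

/-- the stages of a fibre power -/
noncomputable def pwrD (n : ℕ) : Stg P Q p ⥤ X.Etale where
  obj k := pwr k.f n
  map {k k'} h := pmap (Q.D.map h.ψ) (P.D.map h.φ) h.w.symm n
  map_id k := pwr_hom_ext _ _ fun i => by
    rw [pmap_proj, Category.id_comp, show (𝟙 k : k ⟶ k).ψ = 𝟙 _ from rfl, CategoryTheory.Functor.map_id,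
      Category.comp_id]
  map_comp {k k' k''} h h' := pwr_hom_ext _ _ fun i => by
    rw [pmap_proj, Category.assoc, pmap_proj, ← Category.assoc, pmap_proj, Category.assoc, ← Functor.map_comp]
    rfl

theorem exists_pwrπ (n : ℕ) (k : Stg P Q p) :
    ∃ m : pwr p n ⟶ (ProEtS.eps X).obj (pwr k.f n),
      ∀ i, m ≫ (ProEtS.eps X).map (pproj k.f n i) = pproj p n i ≫ Q.π k.a :=
  exists_map_pwr_lift (ProEtS.eps X) k.f n _ fun i => by
    rw [Category.assoc, Category.assoc, k.comm, ← Category.assoc, ← Category.assoc, pproj_comm p n i 0]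

/-- the projection to a stage -/
noncomputable def pwrπ (n : ℕ) (k : Stg P Q p) : pwr p n ⟶ (ProEtS.eps X).obj (pwr k.f n) :=
  (exists_pwrπ P Q p n k).choose

theorem pwrπ_proj (n : ℕ) (k : Stg P Q p) (i : Fin (n + 1)) :
    pwrπ P Q p n k ≫ (ProEtS.eps X).map (pproj k.f n i) = pproj p n i ≫ Q.π k.a :=
  (exists_pwrπ P Q p n k).choose_spec i

theorem pwrπ_w (n : ℕ) {k k' : Stg P Q p} (h : k ⟶ k') :
    pwrπ P Q p n k ≫ (ProEtS.eps X).map ((pwrD P Q p n).map h) = pwrπ P Q p n k' :=
  map_pwr_ext (ProEtS.eps X) k'.f n _ _ fun i => by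
    change (_ ≫ (ProEtS.eps X).map (pmap (Q.D.map h.ψ) (P.D.map h.φ) h.w.symm n)) ≫ _ = _
    rw [Category.assoc, ← Functor.map_comp, pmap_proj, Functor.map_comp, ← Category.assoc, pwrπ_proj,
      Category.assoc, Q.w, pwrπ_proj]

theorem pwrπ_drop (n : ℕ) (k : Stg P Q p) (l : Fin (n + 2)) :
    pdrop p n l ≫ pwrπ P Q p n k = pwrπ P Q p (n + 1) k ≫ (ProEtS.eps X).map (pdrop k.f n l) :=
  map_pwr_ext (ProEtS.eps X) k.f n _ _ fun i => by
    rw [Category.assoc, pwrπ_proj, ← Category.assoc, pdrop_proj, Category.assoc, ← Functor.map_comp, pdrop_proj,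
      pwrπ_proj]

/-- fibre powers of presented objects are presented -/
noncomputable def presPwr (n : ℕ) : Pres (pwr p n) where
  I := Stg P Q p
  D := pwrD P Q p n
  cpt k :=
    haveI := Q.cpt k.a
    haveI := Q.qsp k.a
    haveI := P.qsp k.i
    (qcqs_pwr k.f n).1
  qsp k :=
    haveI := Q.cpt k.a
    haveI := Q.qsp k.a
    haveI := P.qsp k.i
    (qcqs_pwr k.f n).2
  affT h :=
    haveI := Q.affT h.ψ
    haveI := P.affT h.φ
    isAffineHom_pmap (Q.D.map h.ψ) (P.D.map h.φ) h.w.symm n
  π := pwrπ P Q p n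
  w h := pwrπ_w P Q p n h
  lim := Nonempty.some <| by
    let cW := (schCone P.D P.π P.w).whisker (Stg.fstI P Q p)
    have hW : IsLimit cW := (Functor.Initial.isLimitWhiskerEquiv (Stg.fstI P Q p) _).symm P.lim
    let cZ := (schCone Q.D Q.π Q.w).whisker (Stg.sndI P Q p)
    have hZ : IsLimit cZ := (Functor.Initial.isLimitWhiskerEquiv (Stg.sndI P Q p) _).symm Q.lim
    have hπ : ∀ (i : Fin (n + 1)) (k : Stg P Q p), (pwrπ P Q p n k).left ≫ (pproj k.f n i).left =
        (pproj p n i).left ≫ (Q.π k.a).left := fun i k =>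
      congrArg (fun m : pwr p n ⟶ (ProEtS.eps X).obj (Q.D.obj k.a) => m.left) (pwrπ_proj P Q p n k i)
    have huniq : ∀ {T : Scheme.{u}} (L L' : T ⟶ (pwr p n).left),
        (∀ k, L ≫ (pwrπ P Q p n k).left = L' ≫ (pwrπ P Q p n k).left) → L = L' := fun {T} L L' hLL =>
      map_pwr_ext (proSch X) p n L L' fun i => hZ.hom_ext fun k => by
        change (L ≫ (pproj p n i).left) ≫ (Q.π k.a).left = (L' ≫ (pproj p n i).left) ≫ (Q.π k.a).left
        rw [Category.assoc, Category.assoc, ← hπ, ← Category.assoc, ← Category.assoc, hLL]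
    have hex : ∀ (s : Cone (schDia (pwrD P Q p n))), ∃ L : s.pt ⟶ (pwr p n).left,
        ∀ k, L ≫ (pwrπ P Q p n k).left = s.π.app k := by
      intro s
      have hs : ∀ {k k' : Stg P Q p} (h : k ⟶ k'),
          s.π.app k ≫ (pmap (Q.D.map h.ψ) (P.D.map h.φ) h.w.symm n).left = s.π.app k' := fun h => s.w h
      let cs : Fin (n + 1) → Cone (Stg.sndI P Q p ⋙ schDia Q.D) := fun i =>
        { pt := s.pt
          π :=
            { app := fun k => s.π.app k ≫ (pproj k.f n i).left
              naturality := fun k k' h => by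
                change 𝟙 s.pt ≫ s.π.app k' ≫ (pproj k'.f n i).left =
                  (s.π.app k ≫ (pproj k.f n i).left) ≫ (Q.D.map h.ψ).left
                rw [Category.id_comp, ← hs h, Category.assoc, Category.assoc]
                exact congrArg (s.π.app k ≫ ·) (congrArg (fun m : pwr k.f n ⟶ Q.D.obj k'.a => m.left)
                  (pmap_proj (Q.D.map h.ψ) (P.D.map h.φ) h.w.symm n i)) } }
      let m : Fin (n + 1) → (s.pt ⟶ Z.left) := fun i => hZ.lift (cs i)
      have hm : ∀ i k, m i ≫ (Q.π k.a).left = s.π.app k ≫ (pproj k.f n i).left := fun i k => hZ.fac (cs i) k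
      have hcomm : ∀ k : Stg P Q p, (Q.π k.a).left ≫ k.f.left = p.left ≫ (P.π k.i).left := fun k =>
        congrArg (fun m : Z ⟶ (ProEtS.eps X).obj (P.D.obj k.i) => m.left) k.comm
      have hcompat : ∀ i, m i ≫ p.left = m 0 ≫ p.left := fun i => hW.hom_ext fun k => by
        change (m i ≫ p.left) ≫ (P.π k.i).left = (m 0 ≫ p.left) ≫ (P.π k.i).left
        rw [Category.assoc, Category.assoc, ← hcomm, ← Category.assoc, ← Category.assoc, hm, hm, Category.assoc,
          Category.assoc]
        exact congrArg (s.π.app k ≫ ·)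
          (congrArg (fun m : pwr k.f n ⟶ P.D.obj k.i => m.left) (pproj_comm k.f n i 0))
      obtain ⟨L, hL⟩ := exists_map_pwr_lift (proSch X) p n m hcompat
      refine ⟨L, fun k => map_pwr_ext (etSch X) k.f n _ _ fun i => ?_⟩
      change (L ≫ (pwrπ P Q p n k).left) ≫ (pproj k.f n i).left = s.π.app k ≫ (pproj k.f n i).left
      rw [Category.assoc, hπ, ← Category.assoc, ← hm]
      exact congrArg (· ≫ (Q.π k.a).left) (hL i)
    choose L hL using hex
    exact ⟨{ lift := L, fac := hL, uniq := fun s m hm => huniq m (L s) fun k => (hm k).trans (hL s k).symm }⟩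

end Groth.Agent.EpsLan
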