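import Groth.Agent.EpsLan.Nice
import Groth.Agent.EpsLan.Stages
import Mathlib

/-!
The left Kan extension of an étale sheaf is already a sheaf on presented objects; the unit of ε is invertible.
-/

set_option autoImplicit false
set_option backward.isDefEq.respectTransparency false
set_option backward.isDefEq.respectTransparency.types false
set_option linter.style.haveILetI false
set_option synthInstance.maxHeartbeats 200000

universe u

open CategoryTheory CategoryTheory.Limits AlgebraicGeometry Opposite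

namespace Groth.Agent.EpsLan

variable {X : Scheme.{u}}

/-- the sheafified left Kan extension -/
noncomputable abbrev GP (F : EtCoh.Ab X) : ProEtS.AbP X :=
  (presheafToSheaf (Scheme.ProEt.topology X) AddCommGrpCat.{u + 1}).obj (pre F)

/-- the sheafification map -/
noncomputable abbrev η (F : EtCoh.Ab X) : pre F ⟶ (GP F).obj := toSheafify (Scheme.ProEt.topology X) (pre F)

theorem sheaf_forget_proet (G : ProEtS.AbP X) :
    Presieve.IsSheaf (Scheme.ProEt.topology X) (G.obj ⋙ forget AddCommGrpCat.{u + 1}) :=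
  (isSheaf_iff_isSheaf_of_type _ _).1 ((sheafCompose _ (forget AddCommGrpCat.{u + 1})).obj G).property

/-- sections agreeing on a surjection of affines agree -/
theorem sep_of_surjective (G : ProEtS.AbP X) {Z W : X.ProEt} [CompactSpace Z.left] [QuasiSeparatedSpace W.left]
    (p : Z ⟶ W)
    [Surjective p.left] (s t : G.obj.obj (op W)) (h : G.obj.map p.op s = G.obj.map p.op t) : s = t := by
  refine ((sheaf_forget_proet G) _ (singleton_mem_topology p)).isSeparatedFor.ext fun T f hf => ?_
  obtain ⟨_, m, _, ⟨⟩, rfl⟩ := hf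
  change G.obj.map (m ≫ p).op s = G.obj.map (m ≫ p).op t
  rw [op_comp, Functor.map_comp, ConcreteCategory.comp_apply, ConcreteCategory.comp_apply, h]

/-- sections on a disjoint union -/
theorem sigma_glue_ab (G : ProEtS.AbP X) {ι : Type} (Y : ι → X.ProEt) (t : ∀ k, G.obj.obj (op (Y k))) :
    ∃! s : G.obj.obj (op (sigmaObj Y)), ∀ k, G.obj.map (sigmaInj Y k).op s = t k :=
  sigma_glue Y (sheaf_forget_proet G) t

/-- germs on a disjoint union -/
theorem exists_glue_sec (F : EtCoh.Ab X) {ι : Type} (Y : ι → X.ProEt) (x : ∀ k, (pre F).obj (op (Y k))) :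
    ∃ s : (pre F).obj (op (sigmaObj Y)), ∀ k, (pre F).map (sigmaInj Y k).op s = x k := by
  choose V g a ha using fun k => exists_sec F (x k)
  haveI : Etale (Sigma.desc fun k => (V k).hom) :=
    IsZariskiLocalAtSource.sigmaDesc (P := @Etale) fun k => (V k).prop
  let S : X.Etale := Scheme.Etale.mk (Sigma.desc fun k => (V k).hom)
  let j : ∀ k, V k ⟶ S := fun k =>
    MorphismProperty.Over.homMk (Sigma.ι (fun k => (V k).left) k) (Sigma.ι_desc _ _)
  haveI hj : ∀ k, IsOpenImmersion (j k).left := fun k =>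
    inferInstanceAs (IsOpenImmersion (Sigma.ι (fun k => (V k).left) k))
  have hR : Sieve.ofArrows V j ∈ X.smallEtaleTopology S := mem_etale_topology _ fun y => by
    obtain ⟨z, hz⟩ := (sigmaOpenCover fun k => (V k).left).covers y
    exact ⟨_, j _, z, Sieve.ofArrows_mk V j _, hz⟩
  have hc : Presieve.Arrows.Compatible (F.obj ⋙ forget AddCommGrpCat.{u + 1}) j a := by
    intro k l T gk gl hkl
    by_cases hne : k = l
    · subst hne
      have : gk = gl := by
        apply MorphismProperty.Over.Hom.ext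
        have h : gk.left ≫ (j k).left = gl.left ≫ (j k).left := congrArg (fun f => f.left) hkl
        exact (cancel_mono (j k).left).mp h
      rw [this]
    · haveI : IsEmpty T.left := ⟨fun v => by
        have h : (j k).left (gk.left v) = (j l).left (gl.left v) :=
          congrArg (fun f : T ⟶ S => f.left v) hkl
        have hd := TopologicalSpace.Opens.coe_disjoint.mpr (disjoint_opensRange_sigmaι (fun k => (V k).left) k l hne)
        exact Set.disjoint_left.mp hd ⟨gk.left v, rfl⟩ ⟨gl.left v, h.symm⟩⟩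
      exact sub_eq_zero.mp (sect_eq_zero_of_cover F _ fun v => isEmptyElim v)
  obtain ⟨b, hb, -⟩ := (Presieve.isSheafFor_arrows_iff _ _).mp
    ((Presieve.isSheafFor_iff_generate _).mpr ((sheaf_forget_etale F) _ hR)) a hc
  refine ⟨sec F (sigmaOut Y fun k => g k ≫ (ProEtS.eps X).map (j k)) b, fun k => ?_⟩
  rw [sec_comp, sigmaInj_out, sec_map, ← ha k]
  exact congrArg (sec F (g k)) (hb k)

variable {Z W : X.ProEt} (P : Pres W) (Q : Pres Z) (p : Z ⟶ W) (F : EtCoh.Ab X)

theorem sec_pd (n : ℕ) (k : Stg P Q p) (c : F.obj.obj (op (pwr k.f n))) :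
    sec F (pwrπ P Q p (n + 1) k) (pd F.obj k.f c) = pd (pre F) p (sec F (pwrπ P Q p n k) c) := by
  rw [pd, pd, map_sum]
  refine Finset.sum_congr rfl fun l _ => ?_
  rw [map_zsmul]
  exact congrArg _ ((sec_map F (pdrop k.f n l) (pwrπ P Q p (n + 1) k) c).symm.trans
    ((congrArg (fun m => sec F m c) (pwrπ_drop P Q p n k l).symm).trans (sec_comp F _ _ c).symm))

theorem exists_stage_zero (n : ℕ) (k : Stg P Q p) (c : F.obj.obj (op (pwr k.f n)))
    (h : sec F (pwrπ P Q p n k) c = 0) :
    ∃ (k' : Stg P Q p) (t : k' ⟶ k),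
      F.obj.map (pmap (Q.D.map t.ψ) (P.D.map t.φ) t.w.symm n).op c = 0 :=
  (presPwr P Q p n).exists_map_eq_zero F c h

theorem sec_pwr_proj (k : Stg P Q p) (n : ℕ) (i : Fin (n + 1)) (c : F.obj.obj (op (Q.D.obj k.a))) :
    sec F (pwrπ P Q p n k) (F.obj.map (pproj k.f n i).op c) = (pre F).map (pproj p n i).op (sec F (Q.π k.a) c) := by
  rw [← sec_map, pwrπ_proj, sec_comp]

include P Q in
theorem exists_descend [Surjective p.left] (x : (pre F).obj (op Z))
    (hx : (pre F).map (pproj p 1 1).op x = (pre F).map (pproj p 1 0).op x) :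
    ∃ y : (pre F).obj (op W), (pre F).map p.op y = x := by
  obtain ⟨a₀, c₀, rfl⟩ := Q.exists_sec F x
  obtain ⟨i₀⟩ := IsCofiltered.nonempty (C := P.I)
  obtain ⟨k, -, ⟨e⟩⟩ := Stg.exists_below (P := P) (p := p) i₀ a₀
  let c := F.obj.map (Q.D.map e).op c₀
  have hc : sec F (Q.π a₀) c₀ = sec F (Q.π k.a) c := sec_pres_map Q F e c₀
  obtain ⟨k', t, ht⟩ := exists_stage_zero P Q p F 1 k (F.obj.map (pproj k.f 1 1).op c - F.obj.map (pproj k.f 1 0).op c)
    (by rw [map_sub, sec_pwr_proj, sec_pwr_proj, ← hc, hx, sub_self])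
  let c' := F.obj.map (Q.D.map t.ψ).op c
  have hc' : sec F (Q.π a₀) c₀ = sec F (Q.π k'.a) c' := hc.trans (sec_pres_map Q F t.ψ c)
  clear_value c
  have h01 : F.obj.map (pproj k'.f 1 1).op c' = F.obj.map (pproj k'.f 1 0).op c' := by
    have e1 : ∀ i, F.obj.map (pproj k'.f 1 i).op c' =
        F.obj.map (pmap (Q.D.map t.ψ) (P.D.map t.φ) t.w.symm 1).op (F.obj.map (pproj k.f 1 i).op c) := fun i => by
      rw [← ConcreteCategory.comp_apply, ← ConcreteCategory.comp_apply, ← Functor.map_comp, ← Functor.map_comp,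
        ← op_comp, ← op_comp, pmap_proj]
    rw [e1, e1, ← sub_eq_zero, ← map_sub]
    exact ht
  -- descend to the open image
  haveI := etale_left k'.f
  let O : (P.D.obj k'.i).left.Opens := ⟨_, k'.f.left.isOpenMap.isOpen_range⟩
  obtain ⟨f', hf'⟩ := lift_opn k'.f O (fun _ h => h)
  have hsurj : ∀ y : (opn (P.D.obj k'.i) O).left, ∃ z, f'.left z = y := fun y => by
    obtain ⟨z, hz⟩ : O.ι y ∈ Set.range k'.f.left := (Scheme.Opens.range_ι O).le ⟨y, rfl⟩
    exact ⟨z, O.ι.isOpenEmbedding.injective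
      ((congrArg (fun m : Q.D.obj k'.a ⟶ P.D.obj k'.i => m.left z) hf').trans hz)⟩
  have hR : Sieve.generate (Presieve.singleton f') ∈ X.smallEtaleTopology _ := mem_etale_topology _ fun y => by
    obtain ⟨z, hz⟩ := hsurj y
    exact ⟨_, f', z, Sieve.le_generate _ _ _ ⟨⟩, hz⟩
  have hcomp : Presieve.Arrows.Compatible (F.obj ⋙ forget AddCommGrpCat.{u + 1}) (fun _ : PUnit.{u + 1} => f')
      fun _ => c' := by
    intro _ _ T g₁ g₂ h12
    let L := plift k'.f (T := T) (n := 1) ![g₁, g₂] (by
      intro i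
      fin_cases i
      · rfl
      · change g₂ ≫ k'.f = g₁ ≫ k'.f
        rw [← hf', ← Category.assoc, ← Category.assoc, show g₁ ≫ f' = g₂ ≫ f' from h12])
    change F.obj.map g₁.op c' = F.obj.map g₂.op c'
    have l0 : L ≫ pproj k'.f 1 0 = g₁ := plift_proj _ _ _ _
    have l1 : L ≫ pproj k'.f 1 1 = g₂ := plift_proj _ _ _ _
    rw [← l0, ← l1, op_comp, op_comp, Functor.map_comp, Functor.map_comp, ConcreteCategory.comp_apply,
      ConcreteCategory.comp_apply, h01]
  have hR' : Sieve.ofArrows (fun _ : PUnit.{u + 1} => Q.D.obj k'.a) (fun _ => f') ∈ X.smallEtaleTopology _ := by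
    rw [Sieve.ofArrows, Presieve.ofArrows_pUnit]; exact hR
  obtain ⟨b, hb, -⟩ := (Presieve.isSheafFor_arrows_iff _ _).mp
    ((Presieve.isSheafFor_iff_generate _).mpr ((sheaf_forget_etale F) _ hR')) (fun _ => c') hcomp
  have hrange : Set.range (P.π k'.i).left ⊆ Set.range O.ι := by
    rw [Scheme.Opens.range_ι]
    rintro _ ⟨w, rfl⟩
    obtain ⟨z, rfl⟩ := p.left.surjective w
    exact ⟨(Q.π k'.a).left z, congrArg (fun m : Z ⟶ (ProEtS.eps X).obj (P.D.obj k'.i) => m.left z) k'.comm⟩
  let g' : W ⟶ (ProEtS.eps X).obj (opn (P.D.obj k'.i) O) :=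
    MorphismProperty.Over.homMk (IsOpenImmersion.lift O.ι (P.π k'.i).left hrange) (by
      change IsOpenImmersion.lift O.ι (P.π k'.i).left _ ≫ O.ι ≫ (P.D.obj k'.i).hom = W.hom
      rw [IsOpenImmersion.lift_fac_assoc]
      exact Over.w (P.π k'.i).hom)
  refine ⟨sec F g' b, ?_⟩
  rw [sec_comp, hc', show c' = F.obj.map f'.op b from (hb ⟨⟩).symm, ← sec_map]
  refine congrArg (fun m => sec F m b) ?_
  apply MorphismProperty.Over.Hom.ext
  change p.left ≫ IsOpenImmersion.lift O.ι (P.π k'.i).left _ = (Q.π k'.a).left ≫ f'.left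
  rw [← cancel_mono O.ι, Category.assoc, IsOpenImmersion.lift_fac, Category.assoc]
  refine Eq.trans ?_ (congrArg ((Q.π k'.a).left ≫ ·)
    (congrArg (fun m : Q.D.obj k'.a ⟶ P.D.obj k'.i => m.left) hf').symm)
  exact (congrArg (fun m : Z ⟶ (ProEtS.eps X).obj (P.D.obj k'.i) => m.left) k'.comm).symm

include P in
/-- germs are the sections of the sheafification on presented objects -/
theorem bijective_η : Function.Bijective ((η F).app (op W)) := by
  refine ⟨toSheafify_injective F W, fun t => ?_⟩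
  haveI : Presheaf.IsLocallySurjective (Scheme.ProEt.topology X) (η F) := inferInstance
  obtain ⟨n, Y, y, hy, Z, p, q, hqp, ⟨Q⟩, hsurj⟩ := exists_pres_refine P _
    (Presheaf.imageSieve_mem (Scheme.ProEt.topology X) (η F) t)
  choose x hx using hy
  obtain ⟨x₀, hx₀⟩ := exists_glue_sec F Y x
  have h0 : (η F).app _ x₀ = (GP F).obj.map (sigmaOut Y y).op t := by
    refine (sigma_glue_ab (GP F) Y fun k => (η F).app _ (x k)).unique (fun k => ?_) fun k => ?_
    · rw [← NatTrans.naturality_apply, hx₀]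
    · rw [← ConcreteCategory.comp_apply, ← Functor.map_comp, ← op_comp, sigmaInj_out, hx k]
  let xZ := (pre F).map q.op x₀
  have hxZ : (η F).app _ xZ = (GP F).obj.map p.op t := by
    rw [NatTrans.naturality_apply, h0, ← ConcreteCategory.comp_apply, ← Functor.map_comp, ← op_comp, hqp]
  clear_value xZ
  obtain ⟨y', hy'⟩ := exists_descend P Q p F xZ (toSheafify_injective F _ (by
    rw [NatTrans.naturality_apply, NatTrans.naturality_apply, hxZ, ← ConcreteCategory.comp_apply,
      ← ConcreteCategory.comp_apply, ← Functor.map_comp, ← Functor.map_comp, ← op_comp, ← op_comp, pproj_comm]))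
  haveI := P.quasiSeparatedSpace
  haveI := Q.compactSpace
  exact ⟨y', sep_of_surjective (GP F) p _ _ (by rw [← NatTrans.naturality_apply, hy', hxZ])⟩

/-- germs at an étale scheme -/
theorem bijective_unit_affine (V : X.Etale) :
    Function.Bijective ((unit F).app (op V)) := by
  have e : ∀ a, (unit F).app (op V) a = sec F (𝟙 ((ProEtS.eps X).obj V)) a := fun a => by
    change _ = (pre F).map (𝟙 _).op _
    rw [op_id, CategoryTheory.Functor.map_id]
    rfl
  constructor
  · rw [injective_iff_map_eq_zero]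
    intro a ha
    rw [e, sec_eq_zero_iff] at ha
    have h := (map_eq_zero_iff_range F (𝟙 V) a).2 ha
    rwa [op_id, CategoryTheory.Functor.map_id] at h
  · intro x
    obtain ⟨V', g, a, rfl⟩ := exists_sec F x
    let g₀ : V ⟶ V' := MorphismProperty.Over.homMk g.left (Over.w g.hom)
    refine ⟨F.obj.map g₀.op a, ?_⟩
    rw [e, ← sec_map]
    rfl

/-- `F ⟶ ε_* (sheafified extension)` -/
noncomputable def unitMap : F.obj ⟶ (ProEtS.eps X).op ⋙ (GP F).obj :=
  unit F ≫ Functor.whiskerLeft (ProEtS.eps X).op (η F)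

theorem bijective_unitMap (V : X.Etale) [IsAffine V.left] : Function.Bijective ((unitMap F).app (op V)) := by
  obtain ⟨P⟩ := nonempty_pres_eps V
  exact (bijective_η P F).comp (bijective_unit_affine F V)

theorem isIso_of_bijective_affine {G H : EtCoh.Ab X} (φ : G ⟶ H)
    (h : ∀ V : X.Etale, IsAffine V.left → Function.Bijective (φ.hom.app (op V))) : IsIso φ := by
  have hcov : ∀ (V : X.Etale) (R : Sieve V),
      (∀ O : V.left.Opens, IsAffineOpen O → R (opnHom V O)) → R ∈ X.smallEtaleTopology V := fun V R hR =>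
    mem_etale_topology R fun x => by
      obtain ⟨O, hO, hxO, -⟩ : ∃ O : V.left.Opens, IsAffineOpen O ∧ x ∈ O ∧ O ≤ ⊤ :=
        TopologicalSpace.Opens.isBasis_iff_nbhd.mp V.left.isBasis_affineOpens
          (show x ∈ (⊤ : V.left.Opens) from trivial)
      obtain ⟨z, hz⟩ : x ∈ Set.range O.ι := by rw [Scheme.Opens.range_ι]; exact hxO
      exact ⟨opn V O, opnHom V O, z, hR O hO, hz⟩
  refine (Sheaf.isLocallyBijective_iff_isIso (A := AddCommGrpCat.{u + 1}) φ).1
    ⟨⟨fun {V} a b hab => hcov V.unop _ fun O hO => (h (opn V.unop O) hO).1 ?_⟩,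
    ⟨fun {V} s => hcov V _ fun O hO => (h (opn V O) hO).2 _⟩⟩
  rw [NatTrans.naturality_apply, NatTrans.naturality_apply, hab]

theorem isIso_unit_of_adj {C : Type*} [Category C] {D : Type*} [Category D] {L L' : C ⥤ D} {R : D ⥤ C}
    (adj : L ⊣ R) (adj' : L' ⊣ R) (x : C) (h : IsIso (adj'.unit.app x)) : IsIso (adj.unit.app x) := by
  haveI : IsIso (adj.unit.app x ≫ R.map ((Adjunction.leftAdjointUniq adj adj').hom.app x)) := by
    rw [Adjunction.unit_leftAdjointUniq_hom_app]; exact h
  exact IsIso.of_isIso_comp_right (adj.unit.app x) (R.map ((Adjunction.leftAdjointUniq adj adj').hom.app x))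

theorem restrict_unit_hom {C : Type*} [Category C] {D : Type*} [Category D] {A : Type*} [Category A]
    {J : GrothendieckTopology C} {K : GrothendieckTopology D} {G : C ⥤ D} [G.IsContinuous J K]
    {L : (Cᵒᵖ ⥤ A) ⥤ (Dᵒᵖ ⥤ A)} (adj : L ⊣ (Functor.whiskeringLeft _ _ A).obj G.op) [HasWeakSheafify K A]
    (F : Sheaf J A) (u₀ : F.obj ⟶ G.op ⋙ L.obj F.obj) (hu₀ : adj.unit.app F.obj = u₀) :
    (((adj.comp (sheafificationAdjunction K A)).restrictFullyFaithful (fullyFaithfulSheafToPresheaf J A)
      (Functor.FullyFaithful.id _) (L := sheafToPresheaf J A ⋙ L ⋙ presheafToSheaf K A)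
      (R := G.sheafPushforwardContinuous A J K) (Iso.refl _) (Iso.refl _)).unit.app F).hom =
      u₀ ≫ Functor.whiskerLeft G.op (toSheafify K (L.obj F.obj)) := by
  have h := ((adj.comp (sheafificationAdjunction K A)).map_restrictFullyFaithful_unit_app
    (iC := sheafToPresheaf J A) (iD := 𝟭 (Sheaf K A)) (L := sheafToPresheaf J A ⋙ L ⋙ presheafToSheaf K A)
    (R := G.sheafPushforwardContinuous A J K)
    (fullyFaithfulSheafToPresheaf J A) (Functor.FullyFaithful.id _) (Iso.refl _) (Iso.refl _) F)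
  subst hu₀
  refine h.trans ?_
  simp only [Functor.id_obj, Iso.refl_hom, NatTrans.id_app, Adjunction.comp_unit_app]
  erw [CategoryTheory.Functor.map_id, Category.id_comp, Category.comp_id]
  rfl

theorem lan_unit_app :
    ((ProEtS.eps X).op.lanAdjunction AddCommGrpCat.{u + 1}).unit.app F.obj = unit F :=
  congrArg (fun α => NatTrans.app α F.obj) (Functor.lanAdjunction_unit _ _)

/-- the unit of `ε⁻¹ ⊣ ε_*` is invertible -/
theorem isIso_unit [ProEtS.EpsCont X] : IsIso ((ProEtS.epsAdj X).unit.app F) := by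
  have hu := restrict_unit_hom (J := X.smallEtaleTopology) (K := Scheme.ProEt.topology X)
    ((ProEtS.eps X).op.lanAdjunction AddCommGrpCat.{u + 1}) F (unit F) (lan_unit_app F)
  refine isIso_unit_of_adj (ProEtS.epsAdj X)
    (Functor.sheafPullbackConstruction.sheafAdjunctionContinuous (ProEtS.eps X) AddCommGrpCat.{u + 1}
      X.smallEtaleTopology (Scheme.ProEt.topology X)) F (isIso_of_bijective_affine _ fun V hV => ?_)
  have h2 := congrArg (fun m => NatTrans.app m (op V)) hu
  exact (congrArg (fun m => Function.Bijective (ConcreteCategory.hom m)) h2).mpr (bijective_unitMap F V)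

end Groth.Agent.EpsLan
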